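import Groth.Agent.ARLib.Basic
import Mathlib.RingTheory.Ideal.Operations
import Mathlib.RingTheory.Noetherian.Basic
import Mathlib.RingTheory.Finiteness.Ideal

/-!
# Adic systems and systems adic up to translation
-/

universe w v u

open CategoryTheory CategoryTheory.Limits Opposite ARSys

attribute [local instance] CategoryTheory.Abelian.hasFiniteBiproducts

namespace Groth.Agent.ARLib

variable {C : Type u} [Category.{v} C] [Abelian C] {A : Type w} [CommRing A] [Linear A C]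

section Killed

variable {I I' : Ideal A} {X Y Q T : C}

lemma homKilledBy_of_target (h : KilledBy I Y) (φ : X ⟶ Y) : HomKilledBy I φ := fun a ha => by
  rw [← Category.comp_id φ, ← Linear.comp_smul, h a ha, comp_zero]

lemma homKilledBy_of_source (h : KilledBy I X) (φ : X ⟶ Y) : HomKilledBy I φ := fun a ha => by
  rw [← Category.id_comp φ, ← Linear.smul_comp, h a ha, zero_comp]

lemma homKilledBy_comp (f : T ⟶ X) {φ : X ⟶ Y} (h : HomKilledBy I φ) : HomKilledBy I (f ≫ φ) :=
  fun a ha => by rw [← Linear.comp_smul, h a ha, comp_zero]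

lemma homKilledBy_comp_right {φ : X ⟶ Y} (g : Y ⟶ T) (h : HomKilledBy I φ) : HomKilledBy I (φ ≫ g) :=
  fun a ha => by rw [← Linear.smul_comp, h a ha, zero_comp]

lemma homKilledBy_of_epi (p : T ⟶ X) [Epi p] {φ : X ⟶ Y} (h : HomKilledBy I (p ≫ φ)) :
    HomKilledBy I φ := fun a ha => by
  rw [← cancel_epi p, Linear.comp_smul, h a ha, comp_zero]

lemma killedBy_of_epi (p : X ⟶ Q) [Epi p] (h : KilledBy I X) : KilledBy I Q :=
  homKilledBy_of_epi p (homKilledBy_of_source h (p ≫ 𝟙 Q))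

lemma killedBy_of_mono (i : X ⟶ Y) [Mono i] (h : KilledBy I Y) : KilledBy I X := fun a ha => by
  rw [← cancel_mono i, Linear.smul_comp, zero_comp]
  exact homKilledBy_of_target h (𝟙 X ≫ i) a ha

lemma KilledBy.anti (h : I ≤ I') (hX : KilledBy I' X) : KilledBy I X := fun a ha => hX a (h ha)

lemma killedBy_top_iff : KilledBy (⊤ : Ideal A) X ↔ IsZero X := by
  refine ⟨fun h => (IsZero.iff_id_eq_zero X).mpr ?_, fun h a _ => h.eq_of_src _ _⟩
  simpa using h 1 trivial

variable {p : X ⟶ Q}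

lemma isQuot_epi (h : IsQuot I p) : Epi p :=
  ⟨fun a b hab => (h.2 _ (p ≫ b) (homKilledBy_comp_right b (homKilledBy_of_target h.1 p))).unique hab rfl⟩

/-- The factorisation through a quotient map. -/
noncomputable def qdesc (h : IsQuot I p) (φ : X ⟶ Y) (hφ : HomKilledBy I φ) : Q ⟶ Y :=
  (h.2 Y φ hφ).choose

@[reassoc]
lemma qdesc_fac (h : IsQuot I p) (φ : X ⟶ Y) (hφ : HomKilledBy I φ) : p ≫ qdesc h φ hφ = φ :=
  (h.2 Y φ hφ).choose_spec.1

lemma isQuot_of_epi [Epi p] (hQ : KilledBy I Q)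
    (h : ∀ (Y : C) (φ : X ⟶ Y), HomKilledBy I φ → kernel.ι p ≫ φ = 0) : IsQuot I p :=
  ⟨hQ, fun Y φ hφ => ⟨Abelian.epiDesc p φ (h Y φ hφ), Abelian.comp_epiDesc p φ (h Y φ hφ),
    fun ψ hψ => by rw [← cancel_epi p]; exact hψ.trans (Abelian.comp_epiDesc p φ (h Y φ hφ)).symm⟩⟩

/-- Quotients exist for finitely generated ideals, or with enough coproducts. -/
theorem exists_isQuot (hI : I.FG ∨ HasCoproducts.{w} C) (X : C) :
    ∃ (Q : C) (p : X ⟶ Q), IsQuot I p := by
  obtain ⟨D, m, hmI, hgen⟩ : ∃ (D : C) (m : D ⟶ X),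
      (∀ {Y : C} (φ : X ⟶ Y), HomKilledBy I φ → m ≫ φ = 0) ∧
        ∀ {Y : C} (φ : X ⟶ Y), m ≫ φ = 0 → HomKilledBy I φ := by
    rcases hI with hfg | hco
    · obtain ⟨k, g, hg⟩ := Submodule.fg_iff_exists_fin_generating_family.mp hfg
      have hgI : ∀ i, g i ∈ I := fun i => hg ▸ Submodule.subset_span ⟨i, rfl⟩
      refine ⟨⨁ fun _ : Fin k => X, biproduct.desc fun i => g i • 𝟙 X, fun φ hφ => ?_, fun φ hφ a ha => ?_⟩
      · exact biproduct.hom_ext' _ _ fun i => by simp [hφ (g i) (hgI i)]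
      · have hi : ∀ i, g i • φ = 0 := fun i => by
          simpa using biproduct.ι (fun _ : Fin k => X) i ≫= hφ
        rw [← hg] at ha
        induction ha using Submodule.span_induction with
        | mem x hx => obtain ⟨i, rfl⟩ := hx; exact hi i
        | zero => simp
        | add x y _ _ hx hy => rw [add_smul, hx, hy, add_zero]
        | smul c x _ hx => rw [smul_eq_mul, mul_smul, hx, smul_zero]
    · haveI := hco I
      refine ⟨∐ fun _ : I => X, Sigma.desc fun a : I => (a : A) • 𝟙 X, fun φ hφ => ?_, fun φ hφ a ha => ?_⟩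
      · exact Sigma.hom_ext _ _ fun a => by simp [hφ a a.2]
      · simpa using Sigma.ι (fun _ : I => X) ⟨a, ha⟩ ≫= hφ
  refine ⟨cokernel m, cokernel.π m, ?_, fun Y φ hφ => ⟨cokernel.desc m φ (hmI φ hφ), cokernel.π_desc _ _ _,
    fun ψ hψ => coequalizer.hom_ext (hψ.trans (cokernel.π_desc m φ (hmI φ hφ)).symm)⟩⟩
  exact homKilledBy_of_epi (cokernel.π m) (hgen _ (by simp))

lemma fg_or_pow {J : Ideal A} (hJ : J.FG ∨ HasCoproducts.{w} C) (k : ℕ) :
    (J ^ k).FG ∨ HasCoproducts.{w} C :=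
  hJ.imp (fun h => h.pow) id

lemma fg_or_of_noetherian [IsNoetherianRing A] (J : Ideal A) : J.FG ∨ HasCoproducts.{w} C :=
  Or.inl (IsNoetherian.noetherian J)

end Killed

variable {J : Ideal A} {X Y W : PS C}

section Adic

lemma isStrict_of_isAdic (h : IsAdic J X) : IsStrict X := fun n m hnm => isQuot_epi (h.2 n m hnm)

lemma killed_le (h : TermKilled J X) {n k : ℕ} (hk : n + 1 ≤ k) : KilledBy (J ^ k) (X.obj (op n)) :=
  KilledBy.anti (Ideal.pow_le_pow_right hk) (h n)

lemma termKilled_of_mono (i : X ⟶ Y) [Mono i] (h : TermKilled J Y) : TermKilled J X := fun n =>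
  haveI : Mono (i.app (op n)) := inferInstanceAs (Mono (((evaluation ℕᵒᵖ C).obj (op n)).map i))
  killedBy_of_mono (i.app (op n)) (h n)

lemma termKilled_of_epi (p : X ⟶ Y) [Epi p] (h : TermKilled J X) : TermKilled J Y := fun n =>
  haveI : Epi (p.app (op n)) := inferInstanceAs (Epi (((evaluation ℕᵒᵖ C).obj (op n)).map p))
  killedBy_of_epi (p.app (op n)) (h n)

/-- Components of a morphism out of a translate. -/
abbrev shApp {r : ℕ} (f : (shift C r).obj X ⟶ Y) (n : ℕ) : X.obj (op (n + r)) ⟶ Y.obj (op n) :=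
  f.app (op n)

omit [Abelian C] in
@[reassoc]
lemma shApp_nat {r : ℕ} (f : (shift C r).obj X ⟶ Y) {n m : ℕ} (h : n ≤ m) :
    shApp f m ≫ tr Y h = tr X (Nat.add_le_add_right h r) ≫ shApp f n :=
  (f.naturality (homOfLE h).op).symm

/-- A morphism out of a translate from its components. -/
def mkShift {r : ℕ} (app : ∀ n, X.obj (op (n + r)) ⟶ Y.obj (op n))
    (nat : ∀ n m (h : n ≤ m), app m ≫ tr Y h = tr X (Nat.add_le_add_right h r) ≫ app n) :
    (shift C r).obj X ⟶ Y :=
  mkHom (X := (shift C r).obj X) app nat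

/-- The canonical map from a translate. -/
def shiftHom (X : PS C) (r : ℕ) : (shift C r).obj X ⟶ X :=
  mkShift (fun n => tr X (Nat.le_add_right n r)) fun n m h => by rw [tr_comp, tr_comp]

theorem isARIso_shiftHom (X : PS C) (r : ℕ) : IsARIso (shiftHom X r) :=
  isARIso_of_inv (r := r)
    { inv := fun {n m} h => (tr X h : X.obj (op m) ⟶ X.obj (op (n + r)))
      nat := fun {n n' m m'} h h' hn hm => (tr_comp X h hm).trans (tr_comp X (Nat.add_le_add_right hn r) h').symm
      hom_inv := fun {n m} h => tr_comp X h (Nat.le_add_right m r)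
      inv_hom := fun {n m} h => tr_comp X (Nat.le_add_right n r) h }

/-- Out of an adic system, morphisms up to translation are morphisms. -/
theorem existsUnique_of_shift (hX : IsAdic J X) (hY : TermKilled J Y) {r : ℕ}
    (f : (shift C r).obj X ⟶ Y) :
    ∃! g : X ⟶ Y, ∀ n, shApp f n = tr X (Nat.le_add_right n r) ≫ g.app (op n) := by
  let q := fun n => hX.2 n (n + r) (Nat.le_add_right n r)
  refine ⟨mkHom (X := X) (Y := Y) (fun n => qdesc (I := J ^ (n + 1)) (q n) (shApp f n) (homKilledBy_of_target (I := J ^ (n + 1)) (hY n) _)) fun n m h => ?_,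
    fun n => (qdesc_fac (q n) _ (homKilledBy_of_target (I := J ^ (n + 1)) (hY n) _)).symm, fun g hg => NatTrans.ext (funext fun ⟨n⟩ => ?_)⟩
  · haveI := isQuot_epi (q m)
    rw [← cancel_epi (tr X (Nat.le_add_right m r)), qdesc_fac_assoc, shApp_nat, tr_comp_assoc,
      ← tr_comp X (Nat.le_add_right n r) (Nat.add_le_add_right h r), Category.assoc, qdesc_fac]
  · haveI := isQuot_epi (q n)
    rw [← cancel_epi (tr X (Nat.le_add_right n r)), ← hg]
    exact (qdesc_fac (q n) _ (homKilledBy_of_target (I := J ^ (n + 1)) (hY n) _)).symm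

/-- An isomorphism up to translation from a translate of an adic system gives one from the system. -/
theorem exists_arIso_of_shift (hY : IsAdic J Y) (kX : TermKilled J X) {r : ℕ}
    (v : (shift C r).obj Y ⟶ X) (hv : IsARIso v) : ∃ u : Y ⟶ X, IsARIso u := by
  obtain ⟨g, hg, -⟩ := existsUnique_of_shift hY kX v
  have e : shiftHom Y r ≫ g = v := NatTrans.ext (funext fun ⟨n⟩ => (hg n).symm)
  exact ⟨g, isARIso_of_comp_left (isARIso_shiftHom Y r) (e ▸ hv)⟩

end Adic

section ARAdic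

/-- Transport forwards. -/
theorem isARAdic_of_arIso (u : X ⟶ Y) (hu : IsARIso u) (hX : IsARAdic J X) (kY : TermKilled J Y) :
    IsARAdic J Y := by
  obtain ⟨-, W, a, hW, ha⟩ := hX
  exact ⟨kY, W, a ≫ u, hW, isARIso_comp ha hu⟩

/-- Lift an adic resolution along an isomorphism up to translation. -/
theorem isARAdic_of_arIso' (u : X ⟶ Y) (hu : IsARIso u) (hY : IsARAdic J Y) (kX : TermKilled J X) :
    IsARAdic J X := by
  obtain ⟨-, W, a, hW, ha⟩ := hY
  obtain ⟨r, ⟨v⟩⟩ := isARIso_iff.mp hu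
  let s : (shift C r).obj W ⟶ X := mkShift (fun n => a.app (op (n + r)) ≫ v.inv (le_refl (n + r)))
    fun n m h => by
      rw [Category.assoc, ← v.nat (le_refl (n + r)) (le_refl (m + r)) h (by omega), tr_nat_assoc]
  have e : s ≫ u = shiftHom W r ≫ a := NatTrans.ext (funext fun ⟨n⟩ => by
    show (a.app (op (n + r)) ≫ v.inv (le_refl (n + r))) ≫ u.app (op n) = tr W (Nat.le_add_right n r) ≫ a.app (op n)
    rw [Category.assoc, v.inv_hom, tr_nat])
  obtain ⟨g, hg⟩ := exists_arIso_of_shift hW kX s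
    (isARIso_of_comp_right hu (e ▸ isARIso_comp (isARIso_shiftHom W r) ha))
  exact ⟨kX, W, g, hW, hg⟩

lemma isARAdic_of_isAdic (h : IsAdic J X) : IsARAdic J X :=
  ⟨h.1, X, 𝟙 X, h, isARIso_of_isIso _⟩

end ARAdic

section ShortExact

variable {S : ShortComplex (PS C)}

theorem isAdic_X₃_of_strict (hS : S.ShortExact) (h₁ : IsStrict S.X₁) (h₂ : IsAdic J S.X₂) :
    IsAdic J S.X₃ := by
  haveI : ∀ k, Epi (S.g.app (op k)) := epi_g_app hS
  refine ⟨fun n => killedBy_of_epi (S.g.app (op n)) (h₂.1 n), fun n m h => ?_⟩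
  refine ⟨killedBy_of_epi (S.g.app (op n)) (h₂.1 n), fun T φ hφ => ?_⟩
  let ψ := qdesc (h₂.2 n m h) (S.g.app (op m) ≫ φ) (homKilledBy_comp _ hφ)
  have hψ : S.f.app (op n) ≫ ψ = 0 := by
    haveI := h₁ n m h
    rw [← cancel_epi (tr S.X₁ h), ← tr_nat_assoc, qdesc_fac, reassoc_of% (zero_app S m), zero_comp, comp_zero]
  haveI : Epi (tr S.X₃ h) := by
    haveI := isQuot_epi (h₂.2 n m h)
    haveI : Epi (S.g.app (op m) ≫ tr S.X₃ h) := by rw [tr_nat]; infer_instance
    exact epi_of_epi (S.g.app (op m)) _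
  refine ⟨(shortExact_app hS n).exact.desc ψ hψ, ?_, fun χ (hχ : tr S.X₃ h ≫ χ = φ) => ?_⟩
  · show tr S.X₃ h ≫ _ = φ
    rw [← cancel_epi (S.g.app (op m)), tr_nat_assoc]
    erw [(shortExact_app hS n).exact.g_desc, qdesc_fac]
  · rw [← cancel_epi (tr S.X₃ h), hχ, ← cancel_epi (S.g.app (op m)), tr_nat_assoc]
    erw [(shortExact_app hS n).exact.g_desc, qdesc_fac]

theorem isStrict_X₁_of_adic (hS : S.ShortExact) (k₂ : TermKilled J S.X₂) (h₂ : IsStrict S.X₂)
    (h₃ : IsAdic J S.X₃) : IsStrict S.X₁ := by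
  intro n m h
  haveI : ∀ k, Epi (S.g.app (op k)) := epi_g_app hS
  haveI : ∀ k, Mono (S.f.app (op k)) := mono_f_app hS
  let π := cokernel.π (tr S.X₁ h ≫ S.f.app (op n))
  have hq : S.f.app (op m) ≫ tr S.X₂ h ≫ π = 0 := by
    rw [tr_nat_assoc, ← Category.assoc, cokernel.condition]
  let ψ := (shortExact_app hS m).exact.desc (tr S.X₂ h ≫ π) hq
  have hψ : HomKilledBy (J ^ (n + 1)) ψ := by
    refine homKilledBy_of_epi (S.g.app (op m)) ?_
    erw [(shortExact_app hS m).exact.g_desc]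
    exact homKilledBy_comp_right π (homKilledBy_of_target (k₂ n) _)
  have hπ : π = S.g.app (op n) ≫ qdesc (h₃.2 n m h) ψ hψ := by
    haveI := h₂ n m h
    rw [← cancel_epi (tr S.X₂ h), ← tr_nat_assoc, qdesc_fac]
    exact ((shortExact_app hS m).exact.g_desc _ _).symm
  have hf : S.f.app (op n) ≫ π = 0 := by rw [hπ, reassoc_of% (zero_app S n), zero_comp]
  show Epi (tr S.X₁ h)
  rw [epi_iff_surjective_up_to_refinements]
  intro T y
  obtain ⟨T', q, hq', x, hx⟩ := (CokernelCofork.IsColimit.comp_π_eq_zero_iff_up_to_refinements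
    (cokernelIsCokernel (tr S.X₁ h ≫ S.f.app (op n))) (y ≫ S.f.app (op n))).mp
      ((Category.assoc _ _ _).trans ((congrArg (y ≫ ·) hf).trans comp_zero))
  refine ⟨T', q, hq', x, ?_⟩
  rwa [← cancel_mono (S.f.app (op n)), Category.assoc, Category.assoc]

theorem isAdic_X₂ (hS : S.ShortExact) (k₂ : TermKilled J S.X₂) (h₁ : IsAdic J S.X₁)
    (h₃ : IsAdic J S.X₃) : IsAdic J S.X₂ := by
  refine ⟨k₂, fun n m h => ?_⟩
  haveI : ∀ k, Epi (S.g.app (op k)) := epi_g_app hS
  haveI : ∀ k, Mono (S.f.app (op k)) := mono_f_app hS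
  haveI := isQuot_epi (h₁.2 n m h)
  haveI := isQuot_epi (h₃.2 n m h)
  haveI : Epi (tr S.X₂ h) := by
    rw [epi_iff_surjective_up_to_refinements]
    intro T y
    haveI : Epi (S.g.app (op m) ≫ tr S.X₃ h) := epi_comp _ _
    obtain ⟨T', q, hq, x, hx⟩ := surjective_up_to_refinements_of_epi (S.g.app (op m) ≫ tr S.X₃ h) (y ≫ S.g.app (op n))
    have hd : (q ≫ y - x ≫ tr S.X₂ h) ≫ S.g.app (op n) = 0 := by
      rw [Preadditive.sub_comp, Category.assoc, Category.assoc, hx, tr_nat, sub_self]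
    obtain ⟨T'', q', hq', z, hz⟩ := surjective_up_to_refinements_of_epi (tr S.X₁ h)
      ((shortExact_app hS n).exact.lift _ hd)
    refine ⟨T'', q' ≫ q, inferInstance, q' ≫ x + z ≫ S.f.app (op m), ?_⟩
    have e := hz =≫ S.f.app (op n)
    erw [Category.assoc, (shortExact_app hS n).exact.lift_f, Category.assoc, ← tr_nat] at e
    rw [Preadditive.comp_sub, sub_eq_iff_eq_add] at e
    rw [Category.assoc, e, Preadditive.add_comp, Category.assoc, Category.assoc, add_comm]
  refine isQuot_of_epi (k₂ n) fun T φ hφ => ?_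
  let Φ : S.X₂.obj (op m) ⟶ T ⊞ S.X₂.obj (op n) := biprod.lift φ (tr S.X₂ h)
  have hΦ : HomKilledBy (J ^ (n + 1)) Φ := fun a ha => by
    refine biprod.hom_ext _ _ ?_ ?_
    · simp [Φ, hφ a ha]
    · simp [Φ, homKilledBy_of_target (k₂ n) (tr S.X₂ h) a ha]
  let a' := qdesc (h₁.2 n m h) (S.f.app (op m) ≫ Φ) (homKilledBy_comp _ hΦ)
  have ha' : a' ≫ biprod.snd = S.f.app (op n) := by
    rw [← cancel_epi (tr S.X₁ h), qdesc_fac_assoc, ← tr_nat]
    simp [Φ]
  let π := cokernel.π a'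
  have hz : S.f.app (op m) ≫ Φ ≫ π = 0 := by
    rw [← Category.assoc, ← qdesc_fac (h₁.2 n m h) (S.f.app (op m) ≫ Φ) (homKilledBy_comp _ hΦ), Category.assoc,
      cokernel.condition, comp_zero]
  let ψ := (shortExact_app hS m).exact.desc (Φ ≫ π) hz
  have hψ : HomKilledBy (J ^ (n + 1)) ψ := by
    refine homKilledBy_of_epi (S.g.app (op m)) ?_
    erw [(shortExact_app hS m).exact.g_desc]
    exact homKilledBy_comp_right π hΦ
  have hk : kernel.ι (tr S.X₂ h) ≫ Φ ≫ π = 0 := by
    have e : Φ ≫ π = S.g.app (op m) ≫ tr S.X₃ h ≫ qdesc (h₃.2 n m h) ψ hψ := by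
      rw [qdesc_fac]
      exact ((shortExact_app hS m).exact.g_desc _ _).symm
    rw [e, tr_nat_assoc, kernel.condition_assoc, zero_comp]
  obtain ⟨T', q, hq, x, hx⟩ := (CokernelCofork.IsColimit.comp_π_eq_zero_iff_up_to_refinements
    (cokernelIsCokernel a') (kernel.ι (tr S.X₂ h) ≫ Φ)).mp ((Category.assoc _ _ _).trans hk)
  have hx0 : x = 0 := by
    have e := hx =≫ biprod.snd
    simp only [Category.assoc, ha', Φ, biprod.lift_snd, kernel.condition, comp_zero] at e
    exact (cancel_mono (S.f.app (op n))).mp (e.symm.trans zero_comp.symm)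
  have e := hx =≫ biprod.fst
  simp only [hx0, zero_comp, Category.assoc, Φ, biprod.lift_fst] at e
  rwa [← cancel_epi q, comp_zero]

end ShortExact

section StrictCriterion

/-- With quotient maps from a translate onto an adic system, a killed system is adic up to
translation. -/
theorem isARAdic_of_quot (kX : TermKilled J X) (hX : IsStrict X) {r : ℕ} (q : (shift C r).obj X ⟶ Y)
    (hq : ∀ n, IsQuot (J ^ (n + 1)) (shApp q n)) (hY : IsAdic J Y) : IsARAdic J X := by
  let u : Y ⟶ X := mkHom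
    (fun n => qdesc (I := J ^ (n + 1)) (hq n) (tr X (Nat.le_add_right n r)) (homKilledBy_of_target (I := J ^ (n + 1)) (kX n) _))
    fun n m h => by
      haveI := isQuot_epi (hq m)
      rw [← cancel_epi (shApp q m), qdesc_fac_assoc, shApp_nat_assoc, qdesc_fac, tr_comp, tr_comp]
  have hu : ∀ n, shApp q n ≫ u.app (op n) = tr X (Nat.le_add_right n r) := fun n => qdesc_fac (hq n) _ (homKilledBy_of_target (I := J ^ (n + 1)) (kX n) _)
  refine ⟨kX, Y, u, hY, isARIso_of_inv (r := r)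
    { inv := fun {n m} h => tr X h ≫ shApp q n
      nat := fun {n n' m m'} h h' hn hm => by
        rw [tr_comp_assoc, Category.assoc, shApp_nat, tr_comp_assoc]
      hom_inv := fun {n m} h => ?_
      inv_hom := fun {n m} h => by rw [Category.assoc, hu, tr_comp] }⟩
  haveI := isQuot_epi (hq m)
  rw [← cancel_epi (shApp q m), reassoc_of% (hu m), tr_comp_assoc, shApp_nat,
    ← tr_comp X (show n + r ≤ m + r by omega) (le_refl (m + r)), tr_self, Category.id_comp]

/-- The quotient maps of a strict system adic up to translation. -/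
theorem exists_quot_of_isARAdic (hX : IsStrict X) (h : IsARAdic J X) :
    ∃ (r : ℕ) (Y : PS C) (q : (shift C r).obj X ⟶ Y),
      (∀ n, IsQuot (J ^ (n + 1)) (shApp q n)) ∧ IsAdic J Y := by
  obtain ⟨-, W, u, hW, hu⟩ := h
  obtain ⟨r, ⟨v⟩⟩ := isARIso_iff.mp hu
  refine ⟨r, W, mkShift (fun n => v.inv (le_refl (n + r))) (fun n m h => (v.nat (le_refl (n + r))
    (le_refl (m + r)) h (by omega)).symm), fun n => ⟨hW.1 n, fun T φ hφ => ?_⟩, hW⟩
  haveI : ∀ k, Epi (u.app (op k)) := epi_app_of_cokernel_null hX hu.2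
  let a := qdesc (hW.2 n (n + r) (Nat.le_add_right n r)) (u.app (op (n + r)) ≫ φ) (homKilledBy_comp _ hφ)
  refine ⟨a, ?_, fun b hb => ?_⟩
  · show v.inv (le_refl (n + r)) ≫ a = φ
    rw [← cancel_epi (u.app (op (n + r))), v.hom_inv_assoc, qdesc_fac]
  · haveI := isQuot_epi (hW.2 n (n + r) (Nat.le_add_right n r))
    rw [← cancel_epi (tr W (Nat.le_add_right n r)), qdesc_fac, ← v.hom_inv (le_refl (n + r)), Category.assoc]
    exact congrArg (u.app (op (n + r)) ≫ ·) hb

lemma fker_succ_arrow_comp {k : ℕ} {T : C} (φ : X.obj (op (k + 1)) ⟶ T) :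
    (Fker X (k + 1)).arrow ≫ φ = 0 ↔ kernel.ι (tr X (Nat.le_succ k)) ≫ φ = 0 := by
  show (kernelSubobject (tr X (Nat.le_succ k))).arrow ≫ φ = 0 ↔ _
  rw [← kernelSubobject_arrow' (tr X (Nat.le_succ k)), Category.assoc]
  exact ⟨fun h => by rw [← cancel_epi (kernelSubobjectIso (tr X (Nat.le_succ k))).inv] at *; simpa using h,
    fun h => by rw [← cancel_epi (kernelSubobjectIso (tr X (Nat.le_succ k))).inv, h, comp_zero]⟩

/-- The kernels lie in high powers of the ideal. -/
theorem subLEIdeal_of_isARAdic (hX : IsStrict X) (h : IsARAdic J X) :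
    ∃ r, 0 < r ∧ ∀ n, SubLEIdeal (J ^ (n - r)) (Fker X n) := by
  obtain ⟨-, W, u, hW, hu⟩ := h
  obtain ⟨r, ⟨v⟩⟩ := isARIso_iff.mp hu
  refine ⟨r + 1, Nat.succ_pos r, fun n T φ hφ => ?_⟩
  rcases Nat.eq_zero_or_pos (n - (r + 1)) with h0 | hpos
  · have : φ = 0 := by simpa [h0] using hφ 1 (by simp [h0])
    rw [this, comp_zero]
  obtain ⟨k, rfl⟩ : ∃ k, n = k + 1 := ⟨n - 1, by omega⟩
  obtain ⟨j, hj⟩ : ∃ j, k + 1 - (r + 1) = j + 1 := ⟨k + 1 - (r + 1) - 1, by omega⟩
  rw [hj] at hφ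
  haveI := epi_app_of_cokernel_null hX hu.2 (k + 1)
  let a := qdesc (hW.2 j (k + 1) (by omega)) (u.app (op (k + 1)) ≫ φ) (homKilledBy_comp _ hφ)
  have e : φ = tr X (Nat.le_succ k) ≫ v.inv (show j + r ≤ k by omega) ≫ a := by
    rw [v.nat_assoc (show j + r ≤ k by omega) (show j + r ≤ k + 1 by omega) (le_refl j) (Nat.le_succ k),
      tr_self, Category.id_comp, ← cancel_epi (u.app (op (k + 1))), v.hom_inv_assoc, qdesc_fac]
  rw [fker_succ_arrow_comp, e, kernel.condition_assoc, zero_comp]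

/-- Conversely. -/
theorem isARAdic_of_subLEIdeal (hJ : J.FG ∨ HasCoproducts.{w} C) (hX : IsStrict X) (kX : TermKilled J X)
    {r : ℕ} (hr : ∀ n, SubLEIdeal (J ^ (n - r)) (Fker X n)) : IsARAdic J X := by
  choose Q q hq using fun n => exists_isQuot (C := C) (fg_or_pow hJ (n + 1)) (X.obj (op (n + r)))
  have step : ∀ {n M : ℕ} (hM : n + r ≤ M) {T : C} (φ : X.obj (op M) ⟶ T),
      HomKilledBy (J ^ (n + 1)) φ → ∃ ψ, φ = tr X hM ≫ ψ ∧ HomKilledBy (J ^ (n + 1)) ψ := by
    intro n M hM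
    induction M, hM using Nat.le_induction with
    | base => intro T φ hφ; exact ⟨φ, by simp, hφ⟩
    | succ M hM ih =>
      intro T φ hφ
      haveI := hX M (M + 1) (Nat.le_succ M)
      have h0 : kernel.ι (tr X (Nat.le_succ M)) ≫ φ = 0 :=
        (fker_succ_arrow_comp φ).mp (hr (M + 1) T φ fun a ha => hφ a (Ideal.pow_le_pow_right (by omega) ha))
      let φ' := Abelian.epiDesc (tr X (Nat.le_succ M)) φ h0
      obtain ⟨ψ, hψ, hψk⟩ := ih φ' (homKilledBy_of_epi (tr X (Nat.le_succ M))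
        ((Abelian.comp_epiDesc (tr X (Nat.le_succ M)) φ h0).symm ▸ hφ))
      exact ⟨ψ, by rw [← tr_comp X hM (Nat.le_succ M), Category.assoc, ← hψ, Abelian.comp_epiDesc], hψk⟩
  let t : ∀ {n m : ℕ}, n ≤ m → (Q m ⟶ Q n) := fun {n m} h =>
    qdesc (hq m) (tr X (Nat.add_le_add_right h r) ≫ q n)
      (homKilledBy_of_target (KilledBy.anti (Ideal.pow_le_pow_right (by omega)) (hq n).1) _)
  have ht : ∀ {n m : ℕ} (h : n ≤ m), q m ≫ t h = tr X (Nat.add_le_add_right h r) ≫ q n :=
    fun h => qdesc_fac _ _ _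
  haveI : ∀ n, Epi (q n) := fun n => isQuot_epi (hq n)
  let Y : PS C := mkPS Q t (fun n => by rw [← cancel_epi (q n), ht (le_refl n), tr_self]; simp) fun {n m l} h h' => by
    rw [← cancel_epi (q l), reassoc_of% (ht h'), ht h, ht (h.trans h'), tr_comp_assoc]
  refine isARAdic_of_quot kX hX (Y := Y) (mkShift q fun n m h => ht h) hq
    ⟨fun n => (hq n).1, fun n m h => ⟨(hq n).1, fun T φ hφ => ?_⟩⟩
  obtain ⟨ψ, hψ, hψk⟩ := step (show n + r ≤ m + r by omega) (q m ≫ φ) (homKilledBy_comp (q m) hφ)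
  haveI := hX (n + r) (m + r) (by omega)
  refine ⟨qdesc (hq n) ψ hψk, ?_, fun χ hχ => ?_⟩
  · show t h ≫ _ = φ
    exact (cancel_epi (q m)).mp (((reassoc_of% (ht h)) _).trans
      ((congrArg (tr X (show n + r ≤ m + r by omega) ≫ ·) (qdesc_fac _ _ _)).trans hψ.symm))
  · have hχ' : t h ≫ χ = φ := hχ
    exact (cancel_epi (q n)).mp ((cancel_epi (tr X (show n + r ≤ m + r by omega))).mp
      (((reassoc_of% (ht h)) χ).symm.trans ((congrArg (q m ≫ ·) hχ').trans
        (hψ.trans (congrArg (tr X (show n + r ≤ m + r by omega) ≫ ·) (qdesc_fac _ _ _).symm)))))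

end StrictCriterion

section Outer

variable {S : ShortComplex (PS C)}

theorem isARAdic_X₃_of_isMLAR (hS : S.ShortExact) (k₃ : TermKilled J S.X₃) (h₁ : IsMLAR S.X₁)
    (h₂ : IsARAdic J S.X₂) : IsARAdic J S.X₃ := by
  obtain ⟨-, W, u, hW, hu⟩ := h₂
  haveI := hS.mono_f
  haveI := hS.epi_g
  let c := u ≫ S.g
  let a : kernel c ⟶ S.X₁ := hS.exact.lift (kernel.ι c ≫ u) (by rw [Category.assoc]; exact kernel.condition c)
  have ha : a ≫ S.f = kernel.ι c ≫ u := hS.exact.lift_f _ _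
  have haiso : IsARIso a := by
    obtain ⟨r, ⟨v⟩⟩ := isARIso_iff.mp hu
    haveI : ∀ n, Mono (S.f.app (op n)) := mono_f_app hS
    haveI : ∀ n, Mono ((kernel.ι c).app (op n)) := fun n =>
      inferInstanceAs (Mono (((evaluation ℕᵒᵖ C).obj (op n)).map (kernel.ι c)))
    have hlift : ∀ {n m : ℕ} (h : n + r ≤ m), ∃ b : S.X₁.obj (op m) ⟶ (kernel c).obj (op n),
        b ≫ (kernel.ι c).app (op n) = S.f.app (op m) ≫ v.inv h := fun {n m} h => by
      have hex := ((ShortComplex.exact_kernel c).map ((evaluation ℕᵒᵖ C).obj (op n)))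
      haveI : Mono (((ShortComplex.mk _ _ (kernel.condition c)).map ((evaluation ℕᵒᵖ C).obj (op n))).f) :=
        inferInstanceAs (Mono ((kernel.ι c).app (op n)))
      refine ⟨hex.lift (S.f.app (op m) ≫ v.inv h) ?_, hex.lift_f _ _⟩
      show (S.f.app (op m) ≫ v.inv h) ≫ (u ≫ S.g).app (op n) = 0
      rw [NatTrans.comp_app, Category.assoc, v.inv_hom_assoc, ← tr_nat, reassoc_of% (zero_app S m), zero_comp]
    choose b hb using @hlift
    have ha' : ∀ n, a.app (op n) ≫ S.f.app (op n) = (kernel.ι c).app (op n) ≫ u.app (op n) := fun n => by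
      rw [← NatTrans.comp_app, ← NatTrans.comp_app, ha]
    refine isARIso_of_inv (r := r)
      { inv := fun {n m} h => b h
        nat := fun {n n' m m'} h h' hn hm => ?_
        hom_inv := fun {n m} h => ?_
        inv_hom := fun {n m} h => ?_ }
    · rw [← cancel_mono ((kernel.ι c).app (op n)), Category.assoc, Category.assoc, ← tr_nat, hb,
        reassoc_of% (hb h'), ← tr_nat_assoc, v.nat h h' hn hm]
    · rw [← cancel_mono ((kernel.ι c).app (op n)), Category.assoc, hb, reassoc_of% (ha' m), v.hom_inv, tr_nat]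
    · rw [← cancel_mono (S.f.app (op n)), Category.assoc, ha', reassoc_of% (hb h), v.inv_hom, tr_nat]
  obtain ⟨p, hp⟩ := isMLAR_iff.mp ((isMLAR_iff_of_isARIso haiso).mpr h₁)
  let i := uimι hp ≫ kernel.ι c
  let T : ShortComplex (PS C) := ShortComplex.mk i (cokernel.π i) (cokernel.condition i)
  have hT : T.ShortExact := { exact := ShortComplex.exact_cokernel i }
  have hadic := isAdic_X₃_of_strict hT (isStrict_uim hp) hW
  let g' : cokernel i ⟶ S.X₃ := cokernel.desc i c (by simp [i])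
  let φ : T ⟶ S :=
    { τ₁ := uimι hp ≫ a
      τ₂ := u
      τ₃ := g'
      comm₁₂ := by simp [T, i, ha]
      comm₂₃ := by simp [T, g', c] }
  exact ⟨k₃, cokernel i, g', hadic, isARIso_τ₃ φ hT hS (isARIso_comp (isARIso_uimι hp) haiso) hu⟩

theorem isMLAR_X₁_of_isARAdic (hS : S.ShortExact) (k₂ : TermKilled J S.X₂) (h₂ : IsMLAR S.X₂)
    (h₃ : IsARAdic J S.X₃) : IsMLAR S.X₁ := by
  obtain ⟨-, W, u, hW, hu⟩ := h₃
  obtain ⟨r, ⟨v⟩⟩ := isARIso_iff.mp hu
  haveI := hS.mono_f
  haveI := hS.epi_g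
  let E := pullback S.g u
  let p : E ⟶ S.X₂ := pullback.fst S.g u
  let q : E ⟶ W := pullback.snd S.g u
  have hsq : ∀ n, IsPullback (p.app (op n)) (q.app (op n)) (S.g.app (op n)) (u.app (op n)) := fun n =>
    (IsPullback.of_hasPullback S.g u).map ((evaluation ℕᵒᵖ C).obj (op n))
  have hp : IsARIso p := by
    have hl : ∀ {n m : ℕ} (h : n + r ≤ m), ∃ l : S.X₂.obj (op m) ⟶ E.obj (op n),
        l ≫ p.app (op n) = tr S.X₂ (show n ≤ m by omega) ∧
          l ≫ q.app (op n) = S.g.app (op m) ≫ v.inv h := fun {n m} h =>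
      ⟨(hsq n).lift (tr S.X₂ (show n ≤ m by omega)) (S.g.app (op m) ≫ v.inv h)
          (by rw [Category.assoc, v.inv_hom, tr_nat]),
        (hsq n).lift_fst _ _ _, (hsq n).lift_snd _ _ _⟩
    choose l hl₁ hl₂ using @hl
    refine isARIso_of_inv (r := r)
      { inv := fun {n m} h => l h
        nat := fun {n n' m m'} h h' hn hm => ?_
        hom_inv := fun {n m} h => ?_
        inv_hom := fun {n m} h => hl₁ h }
    · refine (hsq n).hom_ext ?_ ?_
      · rw [Category.assoc, Category.assoc, hl₁ h, ← tr_nat, reassoc_of% (hl₁ h'), tr_comp, tr_comp]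
      · rw [Category.assoc, Category.assoc, hl₂ h, ← tr_nat, reassoc_of% (hl₂ h'),
          ← tr_nat_assoc, v.nat h h' hn hm]
    · refine (hsq n).hom_ext ?_ ?_
      · rw [Category.assoc, hl₁ h, tr_nat]
      · rw [Category.assoc, hl₂ h, reassoc_of% (hsq m).w, v.hom_inv, tr_nat]
  obtain ⟨s, hs⟩ := isMLAR_iff.mp ((isMLAR_iff_of_isARIso hp).mpr h₂)
  let i := uimι hs ≫ q
  have hi : ∀ n, Epi (i.app (op n)) := by
    have hstrict : IsStrict W := isStrict_of_isAdic hW
    intro n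
    haveI : Epi (q.app (op n)) := by
      haveI := epi_g_app hS n
      rw [← (hsq n).isoPullback_hom_snd]
      infer_instance
    obtain ⟨t, ⟨w⟩⟩ := isARIso_iff.mp (isARIso_uimι hs)
    haveI : ∀ k, Epi (q.app (op k)) := fun k => by
      haveI := epi_g_app hS k
      rw [← (hsq k).isoPullback_hom_snd]
      infer_instance
    haveI := hstrict n (n + t) (Nat.le_add_right n t)
    have : q.app (op (n + t)) ≫ tr W (Nat.le_add_right n t) = w.inv (le_refl (n + t)) ≫ i.app (op n) := by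
      rw [NatTrans.comp_app, w.inv_hom_assoc, tr_nat]
    haveI : Epi (q.app (op (n + t)) ≫ tr W (Nat.le_add_right n t)) := epi_comp _ _
    exact epi_of_epi_fac (Eq.symm (by assumption))
  haveI : Epi i := by
    haveI : ∀ a, Epi (i.app a) := fun a => hi a.unop
    exact NatTrans.epi_of_epi_app _
  let T : ShortComplex (PS C) := ShortComplex.mk (kernel.ι i) i (kernel.condition i)
  have hT : T.ShortExact := { exact := ShortComplex.exact_kernel i }
  have kE : TermKilled J (uim hs) := by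
    intro n a ha
    have h1 : a • (uimι hs ≫ p).app (op n) = 0 := homKilledBy_of_target (k₂ n) _ a ha
    have h2 : a • i.app (op n) = 0 := homKilledBy_of_target (hW.1 n) _ a ha
    haveI : Mono ((uimι hs).app (op n)) :=
      inferInstanceAs (Mono (((evaluation ℕᵒᵖ C).obj (op n)).map (uimι hs)))
    rw [← cancel_mono ((uimι hs).app (op n)), Linear.smul_comp, zero_comp, Category.id_comp]
    refine (hsq n).hom_ext ?_ ?_
    · rw [Linear.smul_comp, zero_comp]; exact h1
    · rw [Linear.smul_comp, zero_comp]; exact h2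
  have hK := isStrict_X₁_of_adic hT kE (isStrict_uim hs) hW
  let φ : T ⟶ S :=
    { τ₁ := hS.exact.lift (kernel.ι i ≫ uimι hs ≫ p) (by
        rw [Category.assoc, Category.assoc, pullback.condition, ← Category.assoc (uimι hs) q]
        exact kernel.condition_assoc i u |>.trans zero_comp)
      τ₂ := uimι hs ≫ p
      τ₃ := u
      comm₁₂ := hS.exact.lift_f _ _
      comm₂₃ := by
        show (uimι hs ≫ p) ≫ S.g = (uimι hs ≫ q) ≫ u
        rw [Category.assoc, Category.assoc, pullback.condition] }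
  exact (isMLAR_iff_of_isARIso (isARIso_τ₁ φ hT hS (isARIso_comp (isARIso_uimι hs) hp) hu)).mp
    (isMLAR_of_isStrict hK)

end Outer

end Groth.Agent.ARLib
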