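import Groth.Agent.ARLib.Ext
import Mathlib.CategoryTheory.ObjectProperty.FiniteProducts
import Mathlib.CategoryTheory.Limits.Shapes.NormalMono.Basic
import Mathlib.CategoryTheory.Preadditive.Basic

/-!
# The category of adic Noetherian systems
-/

universe w v u

open CategoryTheory CategoryTheory.Limits Opposite ARSys
open scoped ZeroObject

attribute [local instance] CategoryTheory.Abelian.hasFiniteBiproducts

namespace Groth.Agent.ARLib

variable {C : Type u} [Category.{v} C] [Abelian C] {A : Type w} [CommRing A] [Linear A C]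
variable {J : Ideal A} {W X Z : PS C}

lemma eq_zero_of_comp_arIso (hZ : IsAdic J Z) (kW : TermKilled J W) {u : W ⟶ X} (hu : IsARIso u)
    {g : Z ⟶ W} (h : g ≫ u = 0) : g = 0 := by
  obtain ⟨r, ⟨v⟩⟩ := isARIso_iff.mp hu
  refine NatTrans.ext (funext fun ⟨n⟩ => ?_)
  haveI := isQuot_epi (hZ.2 n (n + r) (Nat.le_add_right n r))
  have e : g.app (op (n + r)) ≫ u.app (op (n + r)) = 0 := by rw [← NatTrans.comp_app, h, NatTrans.app_zero]
  rw [NatTrans.app_zero, ← cancel_epi (tr Z (Nat.le_add_right n r)), comp_zero, ← tr_nat,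
    ← v.hom_inv (le_refl (n + r)), reassoc_of% e, zero_comp]

/-- Morphisms out of an adic system lift along isomorphisms up to translation. -/
theorem exists_lift_arIso (hZ : IsAdic J Z) (kW : TermKilled J W) {u : W ⟶ X} (hu : IsARIso u) (h : Z ⟶ X) :
    ∃ g : Z ⟶ W, g ≫ u = h := by
  obtain ⟨r, ⟨v⟩⟩ := isARIso_iff.mp hu
  let f : (shift C r).obj Z ⟶ W := mkShift (fun n => h.app (op (n + r)) ≫ v.inv (le_refl (n + r)))
    fun n m hnm => by
      rw [Category.assoc, ← v.nat (le_refl (n + r)) (le_refl (m + r)) hnm (by omega), tr_nat_assoc]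
  obtain ⟨g, hg, -⟩ := existsUnique_of_shift hZ kW f
  refine ⟨g, NatTrans.ext (funext fun ⟨n⟩ => ?_)⟩
  haveI := isQuot_epi (hZ.2 n (n + r) (Nat.le_add_right n r))
  have e : h.app (op (n + r)) ≫ v.inv (le_refl (n + r)) = tr Z (Nat.le_add_right n r) ≫ g.app (op n) := hg n
  rw [NatTrans.comp_app, ← cancel_epi (tr Z (Nat.le_add_right n r)), ← Category.assoc, ← e, Category.assoc,
    v.inv_hom, tr_nat]

/-- An isomorphism up to translation between adic systems is an isomorphism. -/
theorem isIso_of_arIso (hW : IsAdic J W) (hX : IsAdic J X) {u : W ⟶ X} (hu : IsARIso u) : IsIso u := by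
  obtain ⟨g, hg⟩ := exists_lift_arIso hX hW.1 hu (𝟙 X)
  refine ⟨g, sub_eq_zero.mp (eq_zero_of_comp_arIso hW hW.1 hu ?_), hg⟩
  rw [Preadditive.sub_comp, Category.assoc, hg, Category.comp_id, Category.id_comp, sub_self]

/-- A factor of an isomorphism up to translation through a monomorphism. -/
theorem isARIso_left_of_mono {I : PS C} {e : W ⟶ I} {m : I ⟶ X} [Mono m] (h : IsARIso (e ≫ m)) :
    IsARIso e := by
  obtain ⟨r, ⟨v⟩⟩ := isARIso_iff.mp h
  exact isARIso_of_inv (r := r)
    { inv := fun {n k} hk => m.app (op k) ≫ v.inv hk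
      nat := fun {n n' k k'} hk hk' hn hm => by
        rw [← tr_nat_assoc, v.nat hk hk' hn hm, Category.assoc]
      hom_inv := fun {n k} hk => by
        rw [← Category.assoc, ← NatTrans.comp_app, v.hom_inv]
      inv_hom := fun {n k} hk => by
        haveI := mono_app_of_mono m n
        rw [← cancel_mono (m.app (op n)), Category.assoc, Category.assoc, ← NatTrans.comp_app, v.inv_hom, tr_nat] }

lemma isStrict_of_epi (p : W ⟶ X) [Epi p] (h : IsStrict W) : IsStrict X := fun n m hnm => by
  haveI := h n m hnm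
  haveI : ∀ k, Epi (p.app (op k)) := fun k => inferInstanceAs (Epi (((evaluation ℕᵒᵖ C).obj (op k)).map p))
  haveI : Epi (p.app (op m) ≫ tr X hnm) := by rw [tr_nat]; infer_instance
  exact epi_of_epi (p.app (op m)) _

variable (J) in
/-- Adic Noetherian systems. -/
abbrev adicNoethProp : ObjectProperty (PS C) := fun X => IsAdicNoeth J X

lemma isAdicNoeth_cokernel (u : W ⟶ X) (hW : IsAdic J W) (hX : IsAdicNoeth J X) :
    IsAdicNoeth J (cokernel u) := by
  let T : ShortComplex (PS C) := ShortComplex.mk (Abelian.image.ι u) (cokernel.π u) (kernel.condition _)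
  have hT : T.ShortExact := { exact := ShortComplex.exact_kernel (cokernel.π u) }
  exact ⟨isAdic_X₃_of_strict hT (isStrict_of_epi (Abelian.factorThruImage u) (isStrict_of_isAdic hW)) hX.1,
    noeth_of_epi (cokernel.π u) hX.2⟩

lemma isAdicNoeth_of_isZero (h : IsZero X) : IsAdicNoeth J X := by
  have hz : ∀ n, IsZero (X.obj (op n)) := fun n => ((evaluation ℕᵒᵖ C).obj (op n)).map_isZero h
  exact ⟨⟨fun n a _ => (hz n).eq_of_src _ _, fun n m hnm => ⟨fun a _ => (hz n).eq_of_src _ _,
    fun T φ _ => ⟨0, (hz m).eq_of_src _ _, fun ψ _ => (hz n).eq_of_src _ _⟩⟩⟩,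
    fun n => isNoetherianObject_of_isZero (hz n)⟩

lemma isAdicNoeth_of_iso (e : W ≅ X) (h : IsAdicNoeth J W) : IsAdicNoeth J X := by
  have hz : IsZero (0 : PS C) := isZero_zero _
  let T : ShortComplex (PS C) := ShortComplex.mk (0 : (0 : PS C) ⟶ W) e.hom zero_comp
  have hT : T.ShortExact :=
    { exact := (ShortComplex.exact_iff_mono T rfl).mpr (inferInstanceAs (Mono e.hom))
      mono_f := ⟨fun a b _ => hz.eq_of_tgt a b⟩
      epi_g := inferInstanceAs (Epi e.hom) }
  exact ⟨isAdic_X₃_of_strict hT (isStrict_of_isAdic (isAdicNoeth_of_isZero (J := J) hz).1) h.1,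
    noeth_of_epi e.hom h.2⟩

lemma isAdicNoeth_biprod (hW : IsAdicNoeth J W) (hX : IsAdicNoeth J X) : IsAdicNoeth J (W ⊞ X) := by
  let T : ShortComplex (PS C) := ShortComplex.mk (biprod.inl : W ⟶ W ⊞ X) biprod.snd biprod.inl_snd
  have hT : T.ShortExact := shortExact_biprod W X
  have hk : TermKilled J (W ⊞ X) := fun n a ha => by
    have h₁ : a • (biprod.fst : W ⊞ X ⟶ W).app (op n) = 0 := homKilledBy_of_target (hW.1.1 n) _ a ha
    have h₂ : a • (biprod.snd : W ⊞ X ⟶ X).app (op n) = 0 := homKilledBy_of_target (hX.1.1 n) _ a ha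
    have e := congrArg (fun t => NatTrans.app t (op n)) (biprod.total (X := W) (Y := X))
    simp only [NatTrans.app_add, NatTrans.comp_app, NatTrans.id_app] at e
    rw [← e, smul_add, ← Linear.smul_comp, ← Linear.smul_comp, h₁, h₂, zero_comp, zero_comp, add_zero]
  exact ⟨isAdic_X₂ hT hk hW.1 hX.1, fun n =>
    haveI := hW.2 n
    haveI := hX.2 n
    isNoetherianObject_of_shortExact (shortExact_app hT n)⟩

variable [IsNoetherianRing A]

lemma exists_kernel_model {X Y : PS C} (u : X ⟶ Y) (hX : IsAdicNoeth J X) (hY : IsAdicNoeth J Y) :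
    ∃ (K : PS C) (w : K ⟶ kernel u), IsAdicNoeth J K ∧ IsARIso w := by
  have h := (isARAdicNoeth_kernel_cokernel u ⟨isARAdic_of_isAdic hX.1, hX.2⟩ ⟨isARAdic_of_isAdic hY.1, hY.2⟩).1
  obtain ⟨-, K, w, hK, hw⟩ := h.1
  exact ⟨K, w, isAdicNoeth_of_arIso hK hw h.2, hw⟩

section Category

variable (J)

local notation "D" => ObjectProperty.FullSubcategory (adicNoethProp (C := C) J)

instance : (adicNoethProp (C := C) J).ContainsZero :=
  ⟨⟨0, isZero_zero _, isAdicNoeth_of_isZero (isZero_zero _)⟩⟩

instance : (adicNoethProp (C := C) J).IsClosedUnderIsomorphisms :=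
  ⟨fun e h => isAdicNoeth_of_iso e h⟩

instance : (adicNoethProp (C := C) J).IsClosedUnderBinaryProducts where
  limitsOfShape_le := by
    rintro X ⟨p⟩
    exact isAdicNoeth_of_iso
      ((BinaryBiproduct.isLimit _ _).conePointsIsoOfNatIso p.isLimit (diagramIsoPair p.diag).symm)
      (isAdicNoeth_biprod (p.prop_diag_obj ⟨WalkingPair.left⟩) (p.prop_diag_obj ⟨WalkingPair.right⟩))

theorem hasFiniteProducts_adicNoeth : HasFiniteProducts D :=
  haveI := ObjectProperty.IsClosedUnderFiniteProducts.mk' (P := adicNoethProp (C := C) J)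
  inferInstance

theorem hasKernels_adicNoeth : HasKernels D := by
  refine ⟨fun {X Y} u => ?_⟩
  obtain ⟨K, w, hK, hw⟩ := exists_kernel_model u.hom X.property Y.property
  let K' : D := ⟨K, hK⟩
  let i : K' ⟶ X := ObjectProperty.homMk (w ≫ kernel.ι u.hom)
  have hi : i ≫ u = 0 := ObjectProperty.hom_ext _
    (show (w ≫ kernel.ι u.hom) ≫ u.hom = 0 by rw [Category.assoc, kernel.condition, comp_zero])
  haveI : Mono i := Preadditive.mono_of_cancel_zero _ fun {Z} g hg => ObjectProperty.hom_ext _
    (eq_zero_of_comp_arIso (J := J) Z.property.1 hK.1.1 hw (by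
      rw [← cancel_mono (kernel.ι u.hom), zero_comp, Category.assoc]
      exact congrArg (fun t : Z ⟶ X => t.hom) hg))
  have hex : ∀ {T : D} (k : T ⟶ X), k ≫ u = 0 → ∃ l : T ⟶ K', l ≫ i = k := fun {T} k hk => by
    obtain ⟨g, hg⟩ := exists_lift_arIso T.property.1 hK.1.1 hw
      (kernel.lift u.hom k.hom (congrArg (fun t : T ⟶ Y => t.hom) hk))
    exact ⟨ObjectProperty.homMk g, ObjectProperty.hom_ext _ (show g ≫ w ≫ kernel.ι u.hom = k.hom by
      rw [reassoc_of% hg, kernel.lift_ι])⟩
  exact HasLimit.mk ⟨_, KernelFork.IsLimit.ofι' i hi fun k hk => ⟨(hex k hk).choose, (hex k hk).choose_spec⟩⟩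

theorem hasCokernels_adicNoeth : HasCokernels D := by
  refine ⟨fun {X Y} u => ?_⟩
  let Q : D := ⟨cokernel u.hom, isAdicNoeth_cokernel u.hom X.property.1 Y.property⟩
  let π : Y ⟶ Q := ObjectProperty.homMk (cokernel.π u.hom)
  have hπ : u ≫ π = 0 := ObjectProperty.hom_ext _ (cokernel.condition u.hom)
  haveI : Epi π := Preadditive.epi_of_cancel_zero _ fun {Z} g hg => ObjectProperty.hom_ext _
    ((cancel_epi (cokernel.π u.hom)).mp ((congrArg (fun t : Y ⟶ Z => t.hom) hg).trans comp_zero.symm))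
  exact HasColimit.mk ⟨_, CokernelCofork.IsColimit.ofπ' π hπ fun {T} k hk =>
    ⟨ObjectProperty.homMk (cokernel.desc u.hom k.hom (congrArg (fun t : X ⟶ T => t.hom) hk)),
      ObjectProperty.hom_ext _ (cokernel.π_desc _ _ _)⟩⟩

lemma image_arIso_of_mono {X Y : D} (u : X ⟶ Y) [Mono u] : IsARIso (Abelian.factorThruImage u.hom) := by
  obtain ⟨K, w, hK, hw⟩ := exists_kernel_model u.hom X.property Y.property
  let i : (⟨K, hK⟩ : D) ⟶ X := ObjectProperty.homMk (w ≫ kernel.ι u.hom)
  have hi : i = 0 := (cancel_mono u).mp ((show i ≫ u = 0 from ObjectProperty.hom_ext _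
    (show (w ≫ kernel.ι u.hom) ≫ u.hom = 0 by rw [Category.assoc, kernel.condition, comp_zero])).trans
      zero_comp.symm)
  have hw0 : w = 0 := (cancel_mono (kernel.ι u.hom)).mp
    ((congrArg (fun t : (⟨K, hK⟩ : D) ⟶ X => t.hom) hi).trans zero_comp.symm)
  obtain ⟨r, ⟨v⟩⟩ := isARIso_iff.mp hw
  have hnull : IsARNull (kernel u.hom) := isARNull_iff.mpr ⟨r, fun {n m} h => by
    rw [← v.inv_hom h]
    exact (congrArg (fun t : K ⟶ kernel u.hom => v.inv h ≫ t.app (op n)) hw0).trans (by simp)⟩
  haveI : Epi (Abelian.factorThruImage u.hom) := inferInstance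
  let i' : kernel (Abelian.factorThruImage u.hom) ≅ kernel u.hom :=
    (kernelCompMono _ (Abelian.image.ι u.hom)).symm ≪≫ kernelIsoOfEq (Abelian.image.fac u.hom)
  obtain ⟨s, hs⟩ := isARNull_iff.mp hnull
  refine ⟨isARNull_iff.mpr ⟨s, fun {n m} h => ?_⟩, isARNull_iff.mpr ⟨0, fun {n m} h => (cokernel_null_iff _ _).mpr ?_⟩⟩
  · haveI : IsIso (i'.inv.app (op m)) := inferInstance
    rw [← cancel_epi (i'.inv.app (op m)), tr_nat, hs h, zero_comp, comp_zero]
  · haveI : Epi ((Abelian.factorThruImage u.hom).app (op n)) :=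
      inferInstanceAs (Epi (((evaluation ℕᵒᵖ C).obj (op n)).map (Abelian.factorThruImage u.hom)))
    exact (congrArg (fun t => tr _ _ ≫ t) (cokernel.π_of_epi _)).trans comp_zero

theorem isNormalMonoCategory_adicNoeth : IsNormalMonoCategory D := by
  refine ⟨fun {X Y} u _ => ?_⟩
  have he := image_arIso_of_mono J u
  let Q : D := ⟨cokernel u.hom, isAdicNoeth_cokernel u.hom X.property.1 Y.property⟩
  let π : Y ⟶ Q := ObjectProperty.homMk (cokernel.π u.hom)
  have hex : ∀ {T : D} (k : T ⟶ Y), k ≫ π = 0 → ∃ l : T ⟶ X, l ≫ u = k := fun {T} k hk => by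
    obtain ⟨g, hg⟩ := exists_lift_arIso T.property.1 X.property.1.1 he
      (kernel.lift (cokernel.π u.hom) k.hom (congrArg (fun t : T ⟶ Q => t.hom) hk))
    exact ⟨ObjectProperty.homMk g, ObjectProperty.hom_ext _ (show g ≫ u.hom = k.hom by
      conv_lhs => rw [← Abelian.image.fac u.hom]
      rw [reassoc_of% hg]
      exact kernel.lift_ι _ _ _)⟩
  exact ⟨{ Z := Q, g := π, w := ObjectProperty.hom_ext _ (cokernel.condition u.hom)
           isLimit := KernelFork.IsLimit.ofι' u _ fun k hk => ⟨(hex k hk).choose, (hex k hk).choose_spec⟩ }⟩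

theorem isNormalEpiCategory_adicNoeth : IsNormalEpiCategory D := by
  refine ⟨fun {X Y} u _ => ?_⟩
  haveI : Epi u.hom := Preadditive.epi_of_cokernel_zero (by
    let Q : D := ⟨cokernel u.hom, isAdicNoeth_cokernel u.hom X.property.1 Y.property⟩
    let π : Y ⟶ Q := ObjectProperty.homMk (cokernel.π u.hom)
    have : π = 0 := (cancel_epi u).mp
      ((show u ≫ π = 0 from ObjectProperty.hom_ext _ (cokernel.condition u.hom)).trans comp_zero.symm)
    exact congrArg (fun t : Y ⟶ Q => t.hom) this)
  obtain ⟨K, w, hK, hw⟩ := exists_kernel_model u.hom X.property Y.property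
  let g : K ⟶ X.obj := w ≫ kernel.ι u.hom
  have hgu : g ≫ u.hom = 0 := by rw [Category.assoc, kernel.condition, comp_zero]
  let T₁ : ShortComplex (PS C) := ShortComplex.mk (Abelian.image.ι g) (cokernel.π g) (kernel.condition _)
  have hT₁ : T₁.ShortExact := { exact := ShortComplex.exact_kernel (cokernel.π g) }
  let T₂ : ShortComplex (PS C) := ShortComplex.mk (kernel.ι u.hom) u.hom (kernel.condition _)
  have hT₂ : T₂.ShortExact := { exact := ShortComplex.exact_kernel u.hom }
  have hι : Abelian.image.ι g ≫ u.hom = 0 := by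
    rw [← cancel_epi (Abelian.factorThruImage g), comp_zero, ← Category.assoc, Abelian.image.fac, hgu]
  let φ : T₁ ⟶ T₂ :=
    { τ₁ := kernel.lift u.hom (Abelian.image.ι g) hι
      τ₂ := 𝟙 _
      τ₃ := cokernel.desc g u.hom hgu }
  have hτ₁ : IsARIso φ.τ₁ := by
    have e : Abelian.factorThruImage g ≫ φ.τ₁ = w := by
      rw [← cancel_mono (kernel.ι u.hom), Category.assoc, kernel.lift_ι, Abelian.image.fac]
    haveI : Mono φ.τ₁ := mono_of_mono_fac (kernel.lift_ι u.hom (Abelian.image.ι g) hι)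
    exact isARIso_of_comp_left (isARIso_left_of_mono (e.symm ▸ hw)) (e.symm ▸ hw)
  have hq : IsARIso (cokernel.desc g u.hom hgu) :=
    isARIso_τ₃ φ hT₁ hT₂ hτ₁ (isARIso_of_isIso (𝟙 X.obj))
  haveI := isIso_of_arIso (isAdicNoeth_cokernel g hK.1 X.property).1 Y.property.1 hq
  let g' : (⟨K, hK⟩ : D) ⟶ X := ObjectProperty.homMk g
  exact ⟨{ W := ⟨K, hK⟩, g := g', w := ObjectProperty.hom_ext _ hgu
           isColimit := CokernelCofork.IsColimit.ofπ' u _ fun {T} k hk =>
             ⟨ObjectProperty.homMk (inv (cokernel.desc g u.hom hgu) ≫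
                cokernel.desc g k.hom (congrArg (fun t : (⟨K, hK⟩ : D) ⟶ T => t.hom) hk)),
              ObjectProperty.hom_ext _ (show u.hom ≫ inv (cokernel.desc g u.hom hgu) ≫ _ = k.hom by
                conv_lhs => arg 1; rw [← cokernel.π_desc g u.hom hgu]
                rw [Category.assoc, IsIso.hom_inv_id_assoc, cokernel.π_desc])⟩ }⟩

theorem isNoetherianObject_adicNoeth (Y : D) : IsNoetherianObject Y := by
  rw [isNoetherianObject_iff_monotone_chain_condition]
  intro f
  let Z : ℕ →o Subobject Y.obj := ⟨fun k => imageSubobject (f k).arrow.hom, fun i j hij => by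
    show imageSubobject (f i).arrow.hom ≤ imageSubobject (f j).arrow.hom
    rw [show (f i).arrow.hom = (Subobject.ofLE _ _ (f.monotone hij)).hom ≫ (f j).arrow.hom from
      (congrArg (fun t : (Subobject.underlying.obj (f i) : D) ⟶ Y => t.hom) (Subobject.ofLE_arrow (f.monotone hij))).symm]
    exact imageSubobject_comp_le _ _⟩
  have hZ : ∀ k, IsStrict ((Subobject.underlying.obj (Z k) : PS C)) := fun k => by
    haveI : Epi (factorThruImageSubobject (f k).arrow.hom) := inferInstance
    exact isStrict_of_epi (factorThruImageSubobject (f k).arrow.hom)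
      (isStrict_of_isAdic (Subobject.underlying.obj (f k)).property.1)
  obtain ⟨k₀, hk₀⟩ := strict_chain_stationary Y.property Z hZ
  refine ⟨k₀, fun k hk => ?_⟩
  let j := Subobject.ofLE _ _ (f.monotone hk)
  have e : j.hom ≫ (f k).arrow.hom = (f k₀).arrow.hom :=
    congrArg (fun t : (Subobject.underlying.obj (f k₀) : D) ⟶ Y => t.hom) (Subobject.ofLE_arrow (f.monotone hk))
  let T₀ := Abelian.factorThruImage (f k₀).arrow.hom
  let T := Abelian.factorThruImage (f k).arrow.hom
  have h₀ : IsARIso T₀ := image_arIso_of_mono J (f k₀).arrow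
  have h₁ : IsARIso T := image_arIso_of_mono J (f k).arrow
  have hle : (f k).arrow.hom ≫ cokernel.π (f k₀).arrow.hom = 0 :=
    (imageSubobject_le_iff _ _).mp (hk₀ k hk).le
  have hle' : (f k₀).arrow.hom ≫ cokernel.π (f k).arrow.hom = 0 :=
    (imageSubobject_le_iff _ _).mp (hk₀ k hk).ge
  let c : Abelian.image (f k₀).arrow.hom ≅ Abelian.image (f k).arrow.hom :=
    { hom := kernel.lift _ (Abelian.image.ι (f k₀).arrow.hom) (by
        rw [← cancel_epi (Abelian.factorThruImage (f k₀).arrow.hom), comp_zero, ← Category.assoc,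
          Abelian.image.fac, hle'])
      inv := kernel.lift _ (Abelian.image.ι (f k).arrow.hom) (by
        rw [← cancel_epi (Abelian.factorThruImage (f k).arrow.hom), comp_zero, ← Category.assoc,
          Abelian.image.fac, hle])
      hom_inv_id := by rw [← cancel_mono (Abelian.image.ι (f k₀).arrow.hom)]; simp
      inv_hom_id := by rw [← cancel_mono (Abelian.image.ι (f k).arrow.hom)]; simp }
  have ej : j.hom ≫ T = T₀ ≫ c.hom := by
    rw [← cancel_mono (Abelian.image.ι (f k).arrow.hom), Category.assoc, Category.assoc,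
      Abelian.image.fac, e]
    exact ((congrArg (fun t => T₀ ≫ t) (kernel.lift_ι _ _ _)).trans (Abelian.image.fac _)).symm
  have hj : IsARIso j.hom := isARIso_of_comp_right h₁ (ej ▸ isARIso_comp h₀ (@isARIso_of_isIso _ _ _ _ _ c.hom c.isIso_hom))
  haveI := isIso_of_arIso (Subobject.underlying.obj (f k₀)).property.1
    (Subobject.underlying.obj (f k)).property.1 hj
  haveI : IsIso j := (ObjectProperty.isIso_hom_iff j).mp inferInstance
  refine le_antisymm (f.monotone hk) (Subobject.le_of_comm (inv j) ?_)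
  rw [IsIso.inv_comp_eq, Subobject.ofLE_arrow]

/-- The category of adic Noetherian systems is abelian. -/
@[instance_reducible]
noncomputable def abelianAdicNoeth : Abelian D :=
  { toPreadditive := inferInstance
    toIsNormalMonoCategory := isNormalMonoCategory_adicNoeth J
    toIsNormalEpiCategory := isNormalEpiCategory_adicNoeth J
    has_finite_products := hasFiniteProducts_adicNoeth J
    has_kernels := hasKernels_adicNoeth J
    has_cokernels := hasCokernels_adicNoeth J }

end Category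

end Groth.Agent.ARLib
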