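import Mathlib.CategoryTheory.Subobject.NoetherianObject
import Mathlib.CategoryTheory.Subobject.ArtinianObject
import Mathlib.CategoryTheory.Abelian.Refinements
import Mathlib.CategoryTheory.Limits.Shapes.Biproducts
import Mathlib.CategoryTheory.Subobject.Lattice
import Mathlib.CategoryTheory.Subobject.Limits
import Mathlib.CategoryTheory.Abelian.Exact

/-!
# Noetherian and Artinian objects in abelian categories: quotients, extensions, sums
-/

universe v u

open CategoryTheory CategoryTheory.Limits

namespace Groth.Agent.ARLib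

variable {C : Type u} [Category.{v} C] [Abelian C]

/-- A morphism factors through a subobject iff it dies in the cokernel. -/
lemma factors_iff_comp_cokernel_eq_zero {A X : C} (S : Subobject X) (a : A ⟶ X) :
    S.Factors a ↔ a ≫ cokernel.π S.arrow = 0 := by
  refine ⟨fun h => ?_, fun h => ?_⟩
  · rw [← S.factorThru_arrow a h, Category.assoc, cokernel.condition, comp_zero]
  · haveI : Mono S.arrow := inferInstance
    exact (Subobject.factors_iff _ _).mpr ⟨Abelian.monoLift S.arrow a h, Abelian.monoLift_comp S.arrow a h⟩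

/-- Inclusions of subobjects through cokernels. -/
lemma le_iff_arrow_comp_cokernel {X : C} (S T : Subobject X) :
    S ≤ T ↔ S.arrow ≫ cokernel.π T.arrow = 0 := by
  refine ⟨fun h => ?_, fun h => ?_⟩
  · rw [← Subobject.ofLE_arrow h, Category.assoc, cokernel.condition, comp_zero]
  · exact Subobject.le_of_comm (Abelian.monoLift T.arrow S.arrow h) (Abelian.monoLift_comp _ _ _)

section Quotient

variable {X Q : C} (p : X ⟶ Q) [Epi p]

theorem strictMono_pullback : StrictMono fun S : Subobject Q => (Subobject.pullback p).obj S := by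
  intro S T h
  refine lt_of_le_of_ne ((Subobject.pullback p).monotone h.le) fun he => h.not_ge ?_
  dsimp only at he
  rw [le_iff_arrow_comp_cokernel]
  obtain ⟨A, π, hπ, x, hx⟩ := surjective_up_to_refinements_of_epi p T.arrow
  rw [← cancel_epi π, comp_zero]
  have hf : ((Subobject.pullback p).obj S).Factors x := by
    rw [he, Limits.pullback_factors_iff]
    exact (Subobject.factors_iff _ _).mpr ⟨π, hx⟩
  rw [← Category.assoc, hx]
  have hS : S.Factors (x ≫ p) := (Limits.pullback_factors_iff _ _ _).mp hf
  exact (factors_iff_comp_cokernel_eq_zero S _).mp hS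

include p in
theorem isNoetherianObject_of_epi [IsNoetherianObject X] : IsNoetherianObject Q := by
  haveI : WellFoundedGT (Subobject X) := (isNoetherianObject.is_iff X).mp ‹_›
  exact (isNoetherianObject.is_iff Q).mpr (strictMono_pullback p).wellFoundedGT

include p in
theorem isArtinianObject_of_epi [IsArtinianObject X] : IsArtinianObject Q := by
  haveI : WellFoundedLT (Subobject X) := (isArtinianObject.is_iff X).mp ‹_›
  exact (isArtinianObject.is_iff Q).mpr (strictMono_pullback p).wellFoundedLT

end Quotient

section Extension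

variable {S : ShortComplex C}

theorem strictMono_pair (hS : S.ShortExact) : StrictMono fun T : Subobject S.X₂ =>
    ((Subobject.pullback S.f).obj T, imageSubobject (T.arrow ≫ S.g)) := by
  haveI := hS.mono_f
  intro R T h
  have h1 : ((Subobject.pullback S.f).obj R, imageSubobject (R.arrow ≫ S.g)) ≤
      ((Subobject.pullback S.f).obj T, imageSubobject (T.arrow ≫ S.g)) := by
    refine ⟨(Subobject.pullback S.f).monotone h.le, imageSubobject_le _
      (Subobject.ofLE R T h.le ≫ factorThruImageSubobject _) ?_⟩
    rw [Category.assoc, imageSubobject_arrow_comp, Subobject.ofLE_arrow_assoc]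
  refine lt_of_le_of_ne h1 fun he => h.not_ge ?_
  obtain ⟨he₁, he₂⟩ := Prod.ext_iff.mp he
  dsimp only at he₁ he₂
  rw [le_iff_arrow_comp_cokernel]
  have hf : (imageSubobject (R.arrow ≫ S.g)).Factors (T.arrow ≫ S.g) := by
    rw [he₂]
    exact imageSubobject_factors_comp_self (T.arrow ≫ S.g) (𝟙 _) |> fun e => by rwa [Category.id_comp] at e
  obtain ⟨A, π, hπ, y, hy⟩ := surjective_up_to_refinements_of_epi
    (factorThruImageSubobject (R.arrow ≫ S.g)) ((imageSubobject (R.arrow ≫ S.g)).factorThru _ hf)
  have hy' : π ≫ T.arrow ≫ S.g = y ≫ R.arrow ≫ S.g := by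
    have := hy =≫ (imageSubobject (R.arrow ≫ S.g)).arrow
    rwa [Category.assoc, Category.assoc, Subobject.factorThru_arrow, imageSubobject_arrow_comp] at this
  let d : A ⟶ S.X₂ := π ≫ T.arrow - y ≫ R.arrow
  have hd : d ≫ S.g = 0 := by simp [d, Preadditive.sub_comp, hy']
  obtain ⟨z, hz⟩ : ∃ z, z ≫ S.f = d := ⟨hS.exact.lift d hd, hS.exact.lift_f d hd⟩
  have hT : T.Factors (z ≫ S.f) := (Subobject.factors_iff _ _).mpr
    ⟨π - y ≫ Subobject.ofLE R T h.le, by
      change _ ≫ T.arrow = _
      rw [hz, Preadditive.sub_comp, Category.assoc, Subobject.ofLE_arrow]⟩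
  have hR : R.Factors (z ≫ S.f) :=
    (Limits.pullback_factors_iff _ _ _).mp (he₁.symm ▸ (Limits.pullback_factors_iff _ _ _).mpr hT)
  rw [← cancel_epi π, comp_zero, ← Category.assoc]
  have : π ≫ T.arrow = z ≫ S.f + y ≫ R.arrow := by rw [hz]; simp [d]
  rw [this, Preadditive.add_comp, (factors_iff_comp_cokernel_eq_zero R _).mp hR]
  simp

theorem isNoetherianObject_of_shortExact (hS : S.ShortExact) [IsNoetherianObject S.X₁]
    [IsNoetherianObject S.X₃] : IsNoetherianObject S.X₂ := by
  haveI : WellFoundedGT (Subobject S.X₁) := (isNoetherianObject.is_iff _).mp ‹_›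
  haveI : WellFoundedGT (Subobject S.X₃) := (isNoetherianObject.is_iff _).mp ‹_›
  exact (isNoetherianObject.is_iff _).mpr (strictMono_pair hS).wellFoundedGT

theorem isArtinianObject_of_shortExact (hS : S.ShortExact) [IsArtinianObject S.X₁]
    [IsArtinianObject S.X₃] : IsArtinianObject S.X₂ := by
  haveI : WellFoundedLT (Subobject S.X₁) := (isArtinianObject.is_iff _).mp ‹_›
  haveI : WellFoundedLT (Subobject S.X₃) := (isArtinianObject.is_iff _).mp ‹_›
  exact (isArtinianObject.is_iff _).mpr (strictMono_pair hS).wellFoundedLT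

end Extension

lemma shortExact_biprod (X Y : C) :
    (ShortComplex.mk (biprod.inl : X ⟶ X ⊞ Y) biprod.snd biprod.inl_snd).ShortExact :=
  ShortComplex.Splitting.shortExact { r := biprod.fst, s := biprod.inr }

attribute [local instance] Abelian.hasFiniteBiproducts

/-- Finite sums, one summand at a time. -/
noncomputable def biproductFinSuccIso {n : ℕ} (F : Fin (n + 1) → C) :
    F 0 ⊞ (⨁ fun i : Fin n => F i.succ) ≅ ⨁ F where
  hom := biprod.desc (biproduct.ι F 0) (biproduct.desc fun i => biproduct.ι F i.succ)
  inv := biproduct.desc (Fin.cases biprod.inl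
    fun i => biproduct.ι (fun i : Fin n => F i.succ) i ≫ biprod.inr)
  hom_inv_id := by
    refine biprod.hom_ext' _ _ ?_ (biproduct.hom_ext' _ _ fun i => ?_) <;> simp
  inv_hom_id := by
    refine biproduct.hom_ext' _ _ fun j => ?_
    cases j using Fin.cases <;> simp

/-- A property closed under zero, binary biproducts and isomorphisms holds for finite biproducts. -/
theorem biproduct_induction (P : C → Prop) (h0 : ∀ X, IsZero X → P X)
    (hiso : ∀ {X Y : C}, (X ≅ Y) → P X → P Y) (h2 : ∀ X Y, P X → P Y → P (X ⊞ Y)) :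
    ∀ {n : ℕ} (F : Fin n → C), (∀ i, P (F i)) → P (⨁ F)
  | 0, F, _ => h0 _ ((IsZero.iff_id_eq_zero _).mpr (biproduct.hom_ext' _ _ fun i => i.elim0))
  | _ + 1, F, h => hiso (biproductFinSuccIso F).symm.symm
      (h2 _ _ (h 0) (biproduct_induction P h0 hiso h2 _ fun i => h i.succ))

theorem isNoetherianObject_biproduct {n : ℕ} (F : Fin n → C) (h : ∀ i, IsNoetherianObject (F i)) :
    IsNoetherianObject (⨁ F) :=
  biproduct_induction (fun X => IsNoetherianObject X) (fun _ => isNoetherianObject_of_isZero)
    (fun e hX => isNoetherianObject_of_epi e.hom)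
    (fun X Y _ _ => isNoetherianObject_of_shortExact (shortExact_biprod X Y)) F h

theorem isArtinianObject_biproduct {n : ℕ} (F : Fin n → C) (h : ∀ i, IsArtinianObject (F i)) :
    IsArtinianObject (⨁ F) :=
  biproduct_induction (fun X => IsArtinianObject X) (fun _ hX => isArtinianObject_of_isZero hX)
    (fun e hX => isArtinianObject_of_epi e.hom)
    (fun X Y _ _ => isArtinianObject_of_shortExact (shortExact_biprod X Y)) F h

end Groth.Agent.ARLib
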