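import Groth.Prelude.Def_ARSys
import Groth.Agent.ARLib.NoethArt
import Mathlib.CategoryTheory.Limits.FunctorCategory.Basic
import Mathlib.CategoryTheory.Limits.Preserves.Shapes.Kernels
import Mathlib.CategoryTheory.Limits.Shapes.FunctorToTypes
import Mathlib.Algebra.Homology.ShortComplex.Abelian
import Mathlib.Algebra.Homology.ShortComplex.ExactFunctor

/-!
# Projective systems up to translation: null systems, isomorphisms, Mittag-Leffler-Artin-Rees
-/

universe v u

open CategoryTheory CategoryTheory.Limits Opposite ARSys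

namespace Groth.Agent.ARLib

variable {C : Type u} [Category.{v} C]

section Category

variable {X Y Z : PS C}

@[reassoc]
lemma tr_comp (X : PS C) {n m l : ℕ} (h : n ≤ m) (h' : m ≤ l) :
    tr X h' ≫ tr X h = tr X (h.trans h') := by
  rw [tr, tr, ← X.map_comp]
  rfl

@[simp]
lemma tr_self (X : PS C) {n : ℕ} (h : n ≤ n) : tr X h = 𝟙 _ := X.map_id (op n)

@[reassoc]
lemma tr_nat (u : X ⟶ Y) {n m : ℕ} (h : n ≤ m) :
    u.app (op m) ≫ tr Y h = tr X h ≫ u.app (op n) := (u.naturality (homOfLE h).op).symm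

/-- A morphism of systems from its components. -/
def mkHom (app : ∀ n, X.obj (op n) ⟶ Y.obj (op n))
    (nat : ∀ n m (h : n ≤ m), app m ≫ tr Y h = tr X h ≫ app n) : X ⟶ Y where
  app a := app a.unop
  naturality a b f := by
    obtain ⟨a⟩ := a
    obtain ⟨b⟩ := b
    have : f = (homOfLE (leOfHom f.unop)).op := Subsingleton.elim _ _
    rw [this]
    exact (nat b a (leOfHom f.unop)).symm

@[simp]
lemma mkHom_app (app : ∀ n, X.obj (op n) ⟶ Y.obj (op n))
    (nat : ∀ n m (h : n ≤ m), app m ≫ tr Y h = tr X h ≫ app n) (n : ℕ) :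
    (mkHom app nat).app (op n) = app n := rfl

/-- A system from its terms and transition maps. -/
def mkPS (obj : ℕ → C) (t : ∀ {n m : ℕ}, n ≤ m → (obj m ⟶ obj n))
    (tid : ∀ n, t (le_refl n) = 𝟙 _)
    (tcomp : ∀ {n m l : ℕ} (h : n ≤ m) (h' : m ≤ l), t h' ≫ t h = t (h.trans h')) : PS C where
  obj a := obj a.unop
  map f := t (leOfHom f.unop)
  map_id a := tid a.unop
  map_comp f g := (tcomp _ _).symm

/-- An inverse up to translation by `r`. -/
structure ARInv (u : X ⟶ Y) (r : ℕ) where
  /-- The inverse. -/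
  inv : ∀ {n m : ℕ}, n + r ≤ m → (Y.obj (op m) ⟶ X.obj (op n))
  nat : ∀ {n n' m m' : ℕ} (h : n + r ≤ m) (h' : n' + r ≤ m') (hn : n ≤ n') (hm : m ≤ m'),
    tr Y hm ≫ inv h = inv h' ≫ tr X hn
  hom_inv : ∀ {n m : ℕ} (h : n + r ≤ m), u.app (op m) ≫ inv h = tr X (le_trans (Nat.le_add_right n r) h)
  inv_hom : ∀ {n m : ℕ} (h : n + r ≤ m), inv h ≫ u.app (op n) = tr Y (le_trans (Nat.le_add_right n r) h)

attribute [reassoc] ARInv.nat ARInv.hom_inv ARInv.inv_hom

/-- Increase the translation. -/
def ARInv.mono {u : X ⟶ Y} {r s : ℕ} (v : ARInv u r) (h : r ≤ s) : ARInv u s where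
  inv {n m} hm := v.inv (show n + r ≤ m by omega)
  nat _ _ hn hm := v.nat _ _ hn hm
  hom_inv _ := v.hom_inv _
  inv_hom _ := v.inv_hom _

/-- Composition. -/
def ARInv.comp {u : X ⟶ Y} {w : Y ⟶ Z} {r s : ℕ} (v : ARInv u r) (v' : ARInv w s) :
    ARInv (u ≫ w) (r + s) where
  inv {n m} hm := v'.inv (show (n + r) + s ≤ m by omega) ≫ v.inv (le_refl (n + r))
  nat {n n' m m'} h h' hn hm := by
    rw [v'.nat_assoc (show n + r + s ≤ m by omega) (show n' + r + s ≤ m' by omega) (by omega) hm,
      v.nat (le_refl _) (le_refl _) hn (by omega), Category.assoc]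
  hom_inv {n m} h := by
    rw [NatTrans.comp_app, Category.assoc, v'.hom_inv_assoc, ← Category.assoc, tr_nat, Category.assoc,
      v.hom_inv, tr_comp]
  inv_hom {n m} h := by
    rw [NatTrans.comp_app, Category.assoc, v.inv_hom_assoc, ← tr_nat w, v'.inv_hom_assoc, tr_comp]

/-- The identity. -/
def ARInv.id (X : PS C) : ARInv (𝟙 X) 0 where
  inv hm := tr X (by omega)
  nat _ _ _ _ := by rw [tr_comp, tr_comp]
  hom_inv _ := by simp
  inv_hom _ := by simp

end Category

variable [Abelian C]

section Eval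

variable {X Y : PS C}

/-- Short exact sequences of systems are termwise short exact. -/
lemma shortExact_app {S : ShortComplex (PS C)} (hS : S.ShortExact) (n : ℕ) :
    (ShortComplex.mk (S.f.app (op n)) (S.g.app (op n))
      (by rw [← NatTrans.comp_app, S.zero]; rfl)).ShortExact :=
  hS.map_of_exact ((evaluation ℕᵒᵖ C).obj (op n))

lemma mono_f_app {S : ShortComplex (PS C)} (hS : S.ShortExact) (n : ℕ) : Mono (S.f.app (op n)) :=
  (shortExact_app hS n).mono_f

lemma epi_g_app {S : ShortComplex (PS C)} (hS : S.ShortExact) (n : ℕ) : Epi (S.g.app (op n)) :=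
  (shortExact_app hS n).epi_g

lemma kernel_null_iff (u : X ⟶ Y) {n m : ℕ} (h : n ≤ m) :
    tr (kernel u) h = 0 ↔ kernel.ι (u.app (op m)) ≫ tr X h = 0 := by
  let e := fun k : ℕ => PreservesKernel.iso ((evaluation ℕᵒᵖ C).obj (op k)) u
  have he : ∀ k, (e k).hom ≫ kernel.ι (u.app (op k)) = (kernel.ι u).app (op k) :=
    fun k => (congrArg (fun t => t ≫ _) (PreservesKernel.iso_hom ((evaluation ℕᵒᵖ C).obj (op k)) u)).trans
      (kernelComparison_comp_ι u ((evaluation ℕᵒᵖ C).obj (op k)))
  haveI : Mono ((kernel.ι u).app (op n)) :=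
    inferInstanceAs (Mono (((evaluation ℕᵒᵖ C).obj (op n)).map (kernel.ι u)))
  rw [← cancel_mono ((kernel.ι u).app (op n)), zero_comp, ← tr_nat, ← he m, Category.assoc]
  constructor
  · intro hh
    rw [← cancel_epi (e m).hom, hh, comp_zero]
  · intro hh
    rw [hh, comp_zero]

lemma cokernel_null_iff (u : X ⟶ Y) {n m : ℕ} (h : n ≤ m) :
    tr (cokernel u) h = 0 ↔ tr Y h ≫ cokernel.π (u.app (op n)) = 0 := by
  let e := fun k : ℕ => PreservesCokernel.iso ((evaluation ℕᵒᵖ C).obj (op k)) u
  have he : ∀ k, cokernel.π (u.app (op k)) ≫ (e k).inv = (cokernel.π u).app (op k) :=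
    fun k => (congrArg (fun t => _ ≫ t) (PreservesCokernel.iso_inv ((evaluation ℕᵒᵖ C).obj (op k)) u)).trans
      (π_comp_cokernelComparison u ((evaluation ℕᵒᵖ C).obj (op k)))
  haveI : Epi ((cokernel.π u).app (op m)) :=
    inferInstanceAs (Epi (((evaluation ℕᵒᵖ C).obj (op m)).map (cokernel.π u)))
  rw [← cancel_epi ((cokernel.π u).app (op m)), comp_zero, tr_nat, ← he n, ← Category.assoc]
  constructor
  · intro hh
    rw [← cancel_mono (e n).inv, hh, zero_comp]
  · intro hh
    rw [hh, zero_comp]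

/-- Null with a given translation. -/
def NullAt (X : PS C) (r : ℕ) : Prop := ∀ {n m : ℕ} (h : n + r ≤ m), tr X (le_trans (Nat.le_add_right n r) h) = 0

lemma isARNull_iff {X : PS C} : IsARNull X ↔ ∃ r, NullAt X r := by
  refine exists_congr fun r => ⟨fun H n m h => ?_, fun H n => H (le_refl (n + r))⟩
  rw [← tr_comp X (Nat.le_add_right n r) h]
  exact (congrArg (fun t => tr X h ≫ t) (H n)).trans comp_zero

lemma NullAt.mono {X : PS C} {r s : ℕ} (H : NullAt X r) (h : r ≤ s) : NullAt X s :=
  fun {n m} hm => H (show n + r ≤ m by omega)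

/-- Inverses up to translation give isomorphisms up to translation and conversely. -/
theorem isARIso_iff {u : X ⟶ Y} : IsARIso u ↔ ∃ r, Nonempty (ARInv u r) := by
  constructor
  · rintro ⟨hk, hc⟩
    obtain ⟨r, hr⟩ := isARNull_iff.mp hk
    obtain ⟨s, hs⟩ := isARNull_iff.mp hc
    have hc' : ∀ {n m : ℕ} (h : n + r + s ≤ m), tr Y (show n + r ≤ m by omega) ≫
        cokernel.π (u.app (op (n + r))) = 0 := fun {n m} h => (cokernel_null_iff u _).mp (hs h)
    have hk' : ∀ n, kernel.ι (Abelian.factorThruImage (u.app (op (n + r)))) ≫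
        tr X (Nat.le_add_right n r) = 0 := fun n => by
      have h0 := (kernel_null_iff u (Nat.le_add_right n r)).mp (hr (le_refl (n + r)))
      have hz : kernel.ι (Abelian.factorThruImage (u.app (op (n + r)))) ≫ u.app (op (n + r)) = 0 := by
        exact (congrArg (fun t => kernel.ι _ ≫ t) (Abelian.image.fac (u.app (op (n + r)))).symm).trans
          (by rw [kernel.condition_assoc, zero_comp])
      rw [← kernel.lift_ι _ _ hz, Category.assoc, h0, comp_zero]
    let inv : ∀ {n m : ℕ}, n + (r + s) ≤ m → (Y.obj (op m) ⟶ X.obj (op n)) := fun {n m} h =>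
      kernel.lift (cokernel.π (u.app (op (n + r)))) _ (hc' (show n + r + s ≤ m by omega)) ≫
        Abelian.epiDesc (Abelian.factorThruImage (u.app (op (n + r)))) _ (hk' n)
    have key : ∀ {n m : ℕ} (h : n + (r + s) ≤ m) {A : C} (y : A ⟶ Y.obj (op m))
        (x : A ⟶ X.obj (op (n + r))), y ≫ tr Y (show n + r ≤ m by omega) = x ≫ u.app (op (n + r)) →
        y ≫ inv h = x ≫ tr X (Nat.le_add_right n r) := by
      intro n m h A y x hxy
      have : y ≫ kernel.lift (cokernel.π (u.app (op (n + r)))) _ (hc' (show n + r + s ≤ m by omega)) =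
          x ≫ Abelian.factorThruImage (u.app (op (n + r))) := by
        rw [← cancel_mono (Abelian.image.ι (u.app (op (n + r)))), Category.assoc, Category.assoc,
          Abelian.image.fac]
        exact (congrArg (y ≫ ·) (kernel.lift_ι _ _ _)).trans hxy
      simp only [inv, reassoc_of% this, Abelian.comp_epiDesc]
    have lift : ∀ {n m : ℕ} (_ : n + (r + s) ≤ m), ∃ (A : C) (π : A ⟶ Y.obj (op m)) (_ : Epi π)
        (x : A ⟶ X.obj (op (n + r))), π ≫ tr Y (show n + r ≤ m by omega) = x ≫ u.app (op (n + r)) := by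
      intro n m h
      exact (CokernelCofork.IsColimit.comp_π_eq_zero_iff_up_to_refinements
        (cokernelIsCokernel (u.app (op (n + r)))) _).mp (hc' (show n + r + s ≤ m by omega))
    refine ⟨r + s, ⟨⟨inv, ?_, ?_, ?_⟩⟩⟩
    · intro n n' m m' h h' hn hm
      obtain ⟨A, π, _, x, hx⟩ := lift h'
      rw [← cancel_epi π, ← Category.assoc π (inv h'), key h' π x hx, Category.assoc, tr_comp,
        ← Category.assoc, key h (π ≫ tr Y hm) (x ≫ tr X (show n + r ≤ n' + r by omega)) ?_,
        Category.assoc, tr_comp]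
      rw [Category.assoc, tr_comp, Category.assoc, ← tr_nat, ← Category.assoc, ← hx, Category.assoc, tr_comp]
    · intro n m h
      rw [key h (u.app (op m)) (tr X (show n + r ≤ m by omega)) (tr_nat u _), tr_comp]
    · intro n m h
      obtain ⟨A, π, _, x, hx⟩ := lift h
      rw [← cancel_epi π, ← Category.assoc, key h π x hx, Category.assoc, ← tr_nat, ← Category.assoc,
        ← hx, Category.assoc, tr_comp]
  · rintro ⟨r, ⟨v⟩⟩
    constructor
    · refine isARNull_iff.mpr ⟨r, fun {n m} h => (kernel_null_iff u _).mpr ?_⟩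
      rw [← v.hom_inv h, kernel.condition_assoc, zero_comp]
    · refine isARNull_iff.mpr ⟨r, fun {n m} h => (cokernel_null_iff u _).mpr ?_⟩
      rw [← v.inv_hom h, Category.assoc, cokernel.condition, comp_zero]

lemma isARIso_of_inv {u : X ⟶ Y} {r : ℕ} (v : ARInv u r) : IsARIso u := isARIso_iff.mpr ⟨r, ⟨v⟩⟩

theorem isARIso_comp {Z : PS C} {u : X ⟶ Y} {w : Y ⟶ Z} (hu : IsARIso u) (hw : IsARIso w) :
    IsARIso (u ≫ w) := by
  obtain ⟨r, ⟨v⟩⟩ := isARIso_iff.mp hu
  obtain ⟨s, ⟨v'⟩⟩ := isARIso_iff.mp hw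
  exact isARIso_of_inv (v.comp v')

theorem isARIso_of_isIso (u : X ⟶ Y) [IsIso u] : IsARIso u :=
  isARIso_of_inv (r := 0)
    { inv := fun {n m} h => tr Y (show n ≤ m by omega) ≫ (inv u).app (op n)
      nat := fun {n n' m m'} h h' hn hm => by
        rw [tr_comp_assoc, Category.assoc, tr_nat, tr_comp_assoc]
      hom_inv := fun {n m} h => by
        rw [← Category.assoc, tr_nat, Category.assoc, ← NatTrans.comp_app, IsIso.hom_inv_id]
        simp
      inv_hom := fun {n m} h => by
        rw [Category.assoc, ← NatTrans.comp_app, IsIso.inv_hom_id]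
        simp }

/-- If `w` and `u ≫ w` are isomorphisms up to translation, so is `u`. -/
theorem isARIso_of_comp_right {Z : PS C} {u : X ⟶ Y} {w : Y ⟶ Z} (hw : IsARIso w)
    (huw : IsARIso (u ≫ w)) : IsARIso u := by
  obtain ⟨s, ⟨v⟩⟩ := isARIso_iff.mp huw
  obtain ⟨r, ⟨v'⟩⟩ := isARIso_iff.mp hw
  refine isARIso_of_inv (r := s + r)
    { inv := fun {n m} h => w.app (op m) ≫ v.inv (show n + s ≤ m by omega)
      nat := fun {n n' m m'} h h' hn hm => by
        rw [← tr_nat_assoc, v.nat (show n + s ≤ m by omega) (show n' + s ≤ m' by omega) hn hm, Category.assoc]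
      hom_inv := fun {n m} h => by
        rw [← Category.assoc, ← NatTrans.comp_app, v.hom_inv]
      inv_hom := fun {n m} h => ?_ }
  have e1 : tr Y (show n + r ≤ m by omega) ≫ tr Y (Nat.le_add_right n r) = tr Y (show n ≤ m by omega) :=
    tr_comp _ _ _
  have e2 : v.inv (show n + s ≤ m by omega) ≫ u.app (op n) =
      v.inv (show (n + r) + s ≤ m by omega) ≫ u.app (op (n + r)) ≫ tr Y (Nat.le_add_right n r) := by
    rw [tr_nat u, ← v.nat_assoc (show n + s ≤ m by omega) (show (n + r) + s ≤ m by omega)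
      (Nat.le_add_right n r) (le_refl m), tr_self, Category.id_comp]
  rw [Category.assoc, e2, ← v'.hom_inv (le_refl (n + r))]
  have e3 := v.inv_hom (show (n + r) + s ≤ m by omega)
  rw [NatTrans.comp_app] at e3
  rw [reassoc_of% e3, ← Category.assoc, tr_nat, Category.assoc, v'.hom_inv, tr_comp]

/-- If `u` and `u ≫ w` are isomorphisms up to translation, so is `w`. -/
theorem isARIso_of_comp_left {Z : PS C} {u : X ⟶ Y} {w : Y ⟶ Z} (hu : IsARIso u)
    (huw : IsARIso (u ≫ w)) : IsARIso w := by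
  obtain ⟨s, ⟨v⟩⟩ := isARIso_iff.mp huw
  obtain ⟨r, ⟨v'⟩⟩ := isARIso_iff.mp hu
  refine isARIso_of_inv (r := s + r)
    { inv := fun {n m} h => v.inv (show n + s ≤ m by omega) ≫ u.app (op n)
      nat := fun {n n' m m'} h h' hn hm => by
        rw [v.nat_assoc (show n + s ≤ m by omega) (show n' + s ≤ m' by omega) hn hm, ← tr_nat, Category.assoc]
      hom_inv := fun {n m} h => ?_
      inv_hom := fun {n m} h => by
        rw [Category.assoc, ← NatTrans.comp_app, v.inv_hom] }
  have hm : (n + s) + r ≤ m := by omega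
  have e1 : w.app (op m) ≫ v.inv (show n + s ≤ m by omega) =
      tr Y (show n + s ≤ m by omega) ≫ w.app (op (n + s)) ≫ v.inv (le_refl (n + s)) := by
    rw [← tr_nat_assoc, v.nat (le_refl (n + s)) (show n + s ≤ m by omega) (le_refl n) (by omega),
      tr_self, Category.comp_id]
  have e3 := v.hom_inv (le_refl (n + s))
  rw [NatTrans.comp_app, Category.assoc] at e3
  rw [← Category.assoc, e1, ← v'.inv_hom hm]
  simp only [Category.assoc]
  rw [reassoc_of% e3, ← tr_nat u, v'.inv_hom_assoc, tr_comp]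

end Eval

section MLAR

variable {X Y : PS C}

/-- Comparison of images. -/
lemma imageSubobject_le_iff {A B P : C} (f : A ⟶ P) (g : B ⟶ P) :
    imageSubobject f ≤ imageSubobject g ↔ f ≫ cokernel.π g = 0 := by
  constructor
  · intro h
    rw [← imageSubobject_arrow_comp f, ← Subobject.ofLE_arrow h, Category.assoc, Category.assoc,
      imageSubobject_arrow_comp_eq_zero (cokernel.condition g), comp_zero, comp_zero]
  · intro h
    let d : cokernel g ⟶ cokernel (imageSubobject g).arrow := cokernel.desc g (cokernel.π _) (by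
      exact (congrArg (fun t => t ≫ cokernel.π (imageSubobject g).arrow) (imageSubobject_arrow_comp g).symm).trans
        ((Category.assoc _ _ _).trans ((congrArg (fun t => _ ≫ t) (cokernel.condition _)).trans comp_zero)))
    have hf : (imageSubobject g).Factors f := (factors_iff_comp_cokernel_eq_zero _ f).mpr (by
      have e : f ≫ cokernel.π g ≫ d = 0 := by rw [reassoc_of% h, zero_comp]
      rwa [cokernel.π_desc] at e)
    exact imageSubobject_le f ((imageSubobject g).factorThru f hf) (Subobject.factorThru_arrow _ _ hf)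

/-- The images have stabilised after translation by `r`, uniformly. -/
def StabAt (X : PS C) (r : ℕ) : Prop :=
  ∀ {n k m : ℕ} (hk : n + r ≤ k) (hm : n ≤ m),
    tr X (le_trans (Nat.le_add_right n r) hk) ≫ cokernel.π (tr X hm) = 0

lemma stabAt_iff {r : ℕ} : StabAt X r ↔ ∀ s, r ≤ s → ∀ n,
    imageSubobject (shiftMap X s n) = imageSubobject (shiftMap X r n) := by
  constructor
  · intro H s _ n
    exact ((imageSubobject_le_iff (shiftMap X s n) (shiftMap X r n)).mpr
        (H (show n + r ≤ n + s by omega) (Nat.le_add_right n r))).antisymm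
      ((imageSubobject_le_iff (shiftMap X r n) (shiftMap X s n)).mpr
        (H (le_refl (n + r)) (Nat.le_add_right n s)))
  · intro H n k m hk hm
    rw [← imageSubobject_le_iff]
    obtain ⟨s, hs, hsm⟩ : ∃ s, r ≤ s ∧ m ≤ n + s := ⟨max r (m - n), by omega, by omega⟩
    have h1 : imageSubobject (tr X (le_trans (Nat.le_add_right n r) hk)) ≤ imageSubobject (shiftMap X r n) := by
      rw [← tr_comp X (Nat.le_add_right n r) hk]
      exact imageSubobject_comp_le _ _
    refine h1.trans ((H s hs n).ge.trans ?_)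
    show imageSubobject (tr X (Nat.le_add_right n s)) ≤ _
    rw [← tr_comp X hm hsm]
    exact imageSubobject_comp_le _ _

lemma isMLAR_iff : IsMLAR X ↔ ∃ r, StabAt X r := exists_congr fun _ => stabAt_iff.symm

lemma StabAt.mono {r s : ℕ} (H : StabAt X r) (h : r ≤ s) : StabAt X s :=
  fun {n k m} hk hm => H (show n + r ≤ k by omega) hm

lemma stabAt_zero_of_isStrict (h : IsStrict X) : StabAt X 0 := fun {n k m} _ hm => by
  haveI := h n m hm
  rw [cokernel.π_of_epi, comp_zero]

lemma isMLAR_of_isStrict (h : IsStrict X) : IsMLAR X := isMLAR_iff.mpr ⟨0, stabAt_zero_of_isStrict h⟩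

/-- Invariance under isomorphisms up to translation. -/
theorem isMLAR_iff_of_isARIso {u : X ⟶ Y} (hu : IsARIso u) : IsMLAR X ↔ IsMLAR Y := by
  obtain ⟨r, ⟨v⟩⟩ := isARIso_iff.mp hu
  rw [isMLAR_iff, isMLAR_iff]
  constructor
  · rintro ⟨p, hp⟩
    refine ⟨p + r, fun {n k m} hk hm => ?_⟩
    rw [← tr_comp Y (Nat.le_add_right n p) (show n + p ≤ k by omega),
      ← v.inv_hom (show (n + p) + r ≤ k by omega), Category.assoc, Category.assoc, tr_nat_assoc]
    have h1 : tr X hm ≫ u.app (op n) ≫ cokernel.π (tr Y hm) = 0 := by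
      rw [← tr_nat_assoc, cokernel.condition, comp_zero]
    rw [← cokernel.π_desc (tr X hm) _ h1, reassoc_of% (hp (le_refl (n + p)) hm), zero_comp, comp_zero]
  · rintro ⟨p, hp⟩
    refine ⟨r + p, fun {n k m} hk hm => ?_⟩
    have e : tr X (show n ≤ k by omega) =
        u.app (op k) ≫ tr Y (show n + r ≤ k by omega) ≫ v.inv (le_refl (n + r)) := by
      rw [tr_nat_assoc, v.hom_inv, tr_comp]
    rw [e, Category.assoc, Category.assoc]
    have h1 : tr Y (show n + r ≤ m + r by omega) ≫ v.inv (le_refl (n + r)) ≫ cokernel.π (tr X hm) = 0 := by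
      rw [v.nat_assoc (le_refl (n + r)) (le_refl (m + r)) hm (by omega), cokernel.condition, comp_zero]
    rw [← cokernel.π_desc (tr Y (show n + r ≤ m + r by omega)) _ h1,
      reassoc_of% (hp (show (n + r) + p ≤ k by omega) (show n + r ≤ m + r by omega)), zero_comp, comp_zero]

/-- The term of the system of universal images. -/
noncomputable abbrev uimObj (X : PS C) (r n : ℕ) : C := Abelian.image (tr X (Nat.le_add_right n r))

/-- The transition of universal images. -/
noncomputable def uimTr {r : ℕ} (H : StabAt X r) {n m : ℕ} (h : n ≤ m) :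
    uimObj X r m ⟶ uimObj X r n :=
  kernel.lift _ (Abelian.image.ι (tr X (Nat.le_add_right m r)) ≫ tr X h) (by
    rw [← cancel_epi (Abelian.factorThruImage (tr X (Nat.le_add_right m r))), comp_zero, Category.assoc,
      ← Category.assoc _ (Abelian.image.ι _), Abelian.image.fac, tr_comp_assoc]
    exact H (show n + r ≤ m + r by omega) (Nat.le_add_right n r))

@[reassoc]
lemma uimTr_ι {r : ℕ} (H : StabAt X r) {n m : ℕ} (h : n ≤ m) :
    uimTr H h ≫ Abelian.image.ι (tr X (Nat.le_add_right n r)) = Abelian.image.ι (tr X (Nat.le_add_right m r)) ≫ tr X h :=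
  kernel.lift_ι _ _ _

/-- The system of universal images. -/
noncomputable def uim {r : ℕ} (H : StabAt X r) : PS C :=
  mkPS (uimObj X r) (uimTr H)
    (fun n => by rw [← cancel_mono (Abelian.image.ι (tr X (Nat.le_add_right n r))), uimTr_ι, tr_self]; simp)
    (fun {n m l} h h' => by
      rw [← cancel_mono (Abelian.image.ι (tr X (Nat.le_add_right n r))), Category.assoc, uimTr_ι, uimTr_ι_assoc,
        uimTr_ι, tr_comp])

/-- Its inclusion. -/
noncomputable def uimι {r : ℕ} (H : StabAt X r) : uim H ⟶ X :=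
  mkHom (fun n => Abelian.image.ι (tr X (Nat.le_add_right n r))) (fun _ _ h => (uimTr_ι H h).symm)

instance mono_uimι {r : ℕ} (H : StabAt X r) : Mono (uimι H) := by
  haveI : ∀ a, Mono ((uimι H).app a) := fun a =>
    inferInstanceAs (Mono (Abelian.image.ι (tr X (Nat.le_add_right a.unop r))))
  exact NatTrans.mono_of_mono_app _

theorem isStrict_uim {r : ℕ} (H : StabAt X r) : IsStrict (uim H) := by
  intro n m h
  show Epi (uimTr H h)
  rw [epi_iff_surjective_up_to_refinements]
  intro A y
  obtain ⟨A', π, hπ, x, hx⟩ := surjective_up_to_refinements_of_epi (Abelian.factorThruImage (tr X (Nat.le_add_right n r))) y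
  have hz : (x ≫ tr X (Nat.le_add_right n r)) ≫ cokernel.π (tr X (show n ≤ m + r by omega)) = 0 := by
    rw [Category.assoc, H (le_refl (n + r)) (show n ≤ m + r by omega), comp_zero]
  obtain ⟨A'', π', hπ', z, hz'⟩ := (CokernelCofork.IsColimit.comp_π_eq_zero_iff_up_to_refinements
    (cokernelIsCokernel (tr X (show n ≤ m + r by omega))) _).mp hz
  refine ⟨A'', π' ≫ π, inferInstance, z ≫ Abelian.factorThruImage (tr X (Nat.le_add_right m r)), ?_⟩
  rw [← cancel_mono (Abelian.image.ι (tr X (Nat.le_add_right n r))), Category.assoc, Category.assoc, Category.assoc,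
    Category.assoc, uimTr_ι, ← Category.assoc _ (Abelian.image.ι _) (tr X h), Abelian.image.fac, reassoc_of% hx, Abelian.image.fac,
    tr_comp]
  exact hz'

theorem isARIso_uimι {r : ℕ} (H : StabAt X r) : IsARIso (uimι H) := by
  let v : ∀ {n m : ℕ}, n + r ≤ m → (X.obj (op m) ⟶ uimObj X r n) := fun {n m} h =>
    kernel.lift _ (tr X (le_trans (Nat.le_add_right n r) h)) (H h (Nat.le_add_right n r))
  have hv : ∀ {n m : ℕ} (h : n + r ≤ m), v h ≫ Abelian.image.ι (tr X (Nat.le_add_right n r)) =
      tr X (le_trans (Nat.le_add_right n r) h) := fun h => kernel.lift_ι _ _ _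
  have e1 : ∀ {n n' m m' : ℕ} (h : n + r ≤ m) (h' : n' + r ≤ m') (hn : n ≤ n') (hm : m ≤ m'),
      tr X hm ≫ v h = v h' ≫ uimTr H hn := fun {n n' m m'} h h' hn hm => by
    rw [← cancel_mono (Abelian.image.ι (tr X (Nat.le_add_right n r))), Category.assoc, Category.assoc, uimTr_ι, hv h, reassoc_of% (hv h'),
      tr_comp, tr_comp]
  have e2 : ∀ {n m : ℕ} (h : n + r ≤ m), Abelian.image.ι (tr X (Nat.le_add_right m r)) ≫ v h =
      uimTr H (le_trans (Nat.le_add_right n r) h) := fun {n m} h => by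
    rw [← cancel_mono (Abelian.image.ι (tr X (Nat.le_add_right n r))), Category.assoc, uimTr_ι, hv h]
  exact isARIso_of_inv (r := r)
    { inv := fun h => v h
      nat := fun h h' hn hm => e1 h h' hn hm
      hom_inv := fun h => e2 h
      inv_hom := fun h => hv h }

/-- A cokernel which is strict and null vanishes. -/
theorem epi_app_of_cokernel_null {u : X ⟶ Y} (hY : IsStrict Y) (hc : IsARNull (cokernel u)) (n : ℕ) :
    Epi (u.app (op n)) := by
  obtain ⟨r, hr⟩ := isARNull_iff.mp hc
  haveI := hY n (n + r) (Nat.le_add_right n r)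
  refine Preadditive.epi_of_cokernel_zero ?_
  rw [← cancel_epi (tr Y (Nat.le_add_right n r)), comp_zero]
  exact (cokernel_null_iff u (Nat.le_add_right n r)).mp (hr (le_refl (n + r)))

/-- The image of a strict system isomorphic up to translation consists of the universal images. -/
theorem image_eq_of_isStrict {u : Y ⟶ X} (hY : IsStrict Y) (hu : IsARIso u) :
    ∃ r, ∀ s, r ≤ s → ∀ n, imageSubobject (shiftMap X s n) = imageSubobject (u.app (op n)) := by
  obtain ⟨r, ⟨v⟩⟩ := isARIso_iff.mp hu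
  refine ⟨r, fun s hs n => le_antisymm ?_ ?_⟩
  · show imageSubobject (tr X (Nat.le_add_right n s)) ≤ _
    rw [imageSubobject_le_iff, ← v.inv_hom (show n + r ≤ n + s by omega), Category.assoc,
      cokernel.condition, comp_zero]
  · haveI := hY n (n + s) (Nat.le_add_right n s)
    rw [imageSubobject_le_iff, ← cancel_epi (tr Y (Nat.le_add_right n s)), comp_zero, ← tr_nat_assoc]
    exact (congrArg (fun t => u.app (op (n + s)) ≫ t) (cokernel.condition (tr X (Nat.le_add_right n s)))).trans comp_zero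

end MLAR

section TwoOfThree

variable {S S' : ShortComplex (PS C)} (φ : S ⟶ S')

lemma comm12_app (n : ℕ) : φ.τ₁.app (op n) ≫ S'.f.app (op n) = S.f.app (op n) ≫ φ.τ₂.app (op n) := by
  rw [← NatTrans.comp_app, ← NatTrans.comp_app, φ.comm₁₂]

lemma comm23_app (n : ℕ) : φ.τ₂.app (op n) ≫ S'.g.app (op n) = S.g.app (op n) ≫ φ.τ₃.app (op n) := by
  rw [← NatTrans.comp_app, ← NatTrans.comp_app, φ.comm₂₃]

lemma zero_app (S : ShortComplex (PS C)) (n : ℕ) : S.f.app (op n) ≫ S.g.app (op n) = 0 := by
  rw [← NatTrans.comp_app, S.zero]; rfl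

theorem isARIso_τ₃ (hS : S.ShortExact) (hS' : S'.ShortExact) (h₁ : IsARIso φ.τ₁) (h₂ : IsARIso φ.τ₂) :
    IsARIso φ.τ₃ := by
  obtain ⟨a, ⟨va⟩⟩ := isARIso_iff.mp h₁
  obtain ⟨b, ⟨vb⟩⟩ := isARIso_iff.mp h₂
  have hz : ∀ {n m : ℕ} (h : n + (b + a) ≤ m),
      S'.f.app (op m) ≫ vb.inv (show n + b ≤ m by omega) ≫ S.g.app (op n) = 0 := fun {n m} h => by
    have e := vb.nat (le_refl (n + b)) (show n + b ≤ m by omega) (le_refl n) (show n + b ≤ m by omega)
    rw [tr_self, Category.comp_id] at e
    rw [← e, Category.assoc, tr_nat_assoc, ← va.inv_hom (show (n + b) + a ≤ m by omega), Category.assoc,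
      reassoc_of% (comm12_app φ (n + b)), vb.hom_inv_assoc, ← tr_nat S.g, reassoc_of% (zero_app S (n + b)),
      zero_comp, comp_zero]
  haveI : ∀ m, Epi (S'.g.app (op m)) := epi_g_app hS'
  haveI : ∀ m, Epi (S.g.app (op m)) := epi_g_app hS
  refine isARIso_of_inv (r := b + a)
    { inv := fun {n m} h => (shortExact_app hS' m).exact.desc (vb.inv (show n + b ≤ m by omega) ≫ S.g.app (op n))
        (hz h)
      nat := fun {n n' m m'} h h' hn hm => ?_
      hom_inv := fun {n m} h => ?_
      inv_hom := fun {n m} h => ?_ }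
  all_goals first
    | rw [← cancel_epi (S'.g.app (op m'))]
    | rw [← cancel_epi (S.g.app (op m))]
    | rw [← cancel_epi (S'.g.app (op m))]
  · rw [tr_nat_assoc]
    erw [(shortExact_app hS' m).exact.g_desc, (shortExact_app hS' m').exact.g_desc_assoc]
    rw [vb.nat_assoc (show n + b ≤ m by omega) (show n' + b ≤ m' by omega) hn hm, Category.assoc, tr_nat]
  · rw [← reassoc_of% (comm23_app φ m)]
    erw [(shortExact_app hS' m).exact.g_desc]
    rw [vb.hom_inv_assoc, tr_nat]
  · erw [(shortExact_app hS' m).exact.g_desc_assoc]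
    rw [Category.assoc, ← comm23_app φ n, vb.inv_hom_assoc, tr_nat]

theorem isARIso_τ₁ (hS : S.ShortExact) (hS' : S'.ShortExact) (h₂ : IsARIso φ.τ₂) (h₃ : IsARIso φ.τ₃) :
    IsARIso φ.τ₁ := by
  obtain ⟨b, ⟨vb⟩⟩ := isARIso_iff.mp h₂
  obtain ⟨c, ⟨vc⟩⟩ := isARIso_iff.mp h₃
  have hz : ∀ {n m : ℕ} (h : n + (c + b) ≤ m),
      (S'.f.app (op m) ≫ vb.inv (show (n + c) + b ≤ m by omega) ≫ tr S.X₂ (Nat.le_add_right n c)) ≫
        S.g.app (op n) = 0 := fun {n m} h => by
    rw [Category.assoc, Category.assoc, ← tr_nat, ← vc.hom_inv (le_refl (n + c)),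
      ← reassoc_of% (comm23_app φ (n + c)), vb.inv_hom_assoc, ← tr_nat_assoc S'.g,
      reassoc_of% (zero_app S' m), zero_comp]
  haveI : ∀ m, Mono (S.f.app (op m)) := mono_f_app hS
  haveI : ∀ m, Mono (S'.f.app (op m)) := mono_f_app hS'
  refine isARIso_of_inv (r := c + b)
    { inv := fun {n m} h => (shortExact_app hS n).exact.lift
        (S'.f.app (op m) ≫ vb.inv (show (n + c) + b ≤ m by omega) ≫ tr S.X₂ (Nat.le_add_right n c)) (hz h)
      nat := fun {n n' m m'} h h' hn hm => ?_
      hom_inv := fun {n m} h => ?_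
      inv_hom := fun {n m} h => ?_ }
  all_goals first
    | (rw [← cancel_mono (S.f.app (op n))]; simp only [Category.assoc])
    | (rw [← cancel_mono (S'.f.app (op n))]; simp only [Category.assoc])
  · rw [← tr_nat S.f]
    erw [(shortExact_app hS n).exact.lift_f, reassoc_of% (shortExact_app hS n').exact.lift_f]
    rw [← tr_nat_assoc, vb.nat_assoc (show (n + c) + b ≤ m by omega) (show (n' + c) + b ≤ m' by omega)
      (show n + c ≤ n' + c by omega) hm, Category.assoc, Category.assoc, tr_comp, tr_comp]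
  · erw [(shortExact_app hS n).exact.lift_f]
    rw [reassoc_of% (comm12_app φ m), vb.hom_inv_assoc, tr_comp, tr_nat]
  · rw [comm12_app φ n]
    erw [reassoc_of% (shortExact_app hS n).exact.lift_f]
    simp only [Category.assoc]
    rw [← tr_nat φ.τ₂, vb.inv_hom_assoc, tr_comp, tr_nat]

end TwoOfThree

end Groth.Agent.ARLib
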