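import Groth.Agent.ARLib.Basic
import Mathlib.CategoryTheory.Limits.HasLimits

/-!
# Null and Mittag-Leffler-Artin-Rees systems in short exact sequences, and limits
-/

universe v u

open CategoryTheory CategoryTheory.Limits Opposite ARSys

namespace Groth.Agent.ARLib

variable {C : Type u} [Category.{v} C] [Abelian C]

theorem isARNull_X₂_iff {S : ShortComplex (PS C)} (hS : S.ShortExact) :
    IsARNull S.X₂ ↔ IsARNull S.X₁ ∧ IsARNull S.X₃ := by
  haveI : ∀ k, Epi (S.g.app (op k)) := epi_g_app hS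
  haveI : ∀ k, Mono (S.f.app (op k)) := mono_f_app hS
  rw [isARNull_iff, isARNull_iff, isARNull_iff]
  constructor
  · rintro ⟨r, hr⟩
    refine ⟨⟨r, fun {n m} h => ?_⟩, ⟨r, fun {n m} h => ?_⟩⟩
    · rw [← cancel_mono (S.f.app (op n)), ← tr_nat, hr h, comp_zero, zero_comp]
    · rw [← cancel_epi (S.g.app (op m)), tr_nat, hr h, comp_zero, zero_comp]
  · rintro ⟨⟨r, hr⟩, ⟨s, hs⟩⟩
    refine ⟨r + s, fun {n m} h => ?_⟩
    have hz : tr S.X₂ (show n + r ≤ m by omega) ≫ S.g.app (op (n + r)) = 0 := by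
      rw [← tr_nat, hs (show (n + r) + s ≤ m by omega), comp_zero]
    rw [← tr_comp S.X₂ (Nat.le_add_right n r) (show n + r ≤ m by omega)]
    have e : (shortExact_app hS (n + r)).exact.lift _ hz ≫ S.f.app (op (n + r)) =
        tr S.X₂ (show n + r ≤ m by omega) := (shortExact_app hS (n + r)).exact.lift_f _ hz
    rw [← e, Category.assoc, tr_nat, hr (le_refl (n + r)), zero_comp, comp_zero]

theorem isMLAR_X₃ {S : ShortComplex (PS C)} (hS : S.ShortExact) (h : IsMLAR S.X₂) : IsMLAR S.X₃ := by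
  obtain ⟨r, hr⟩ := isMLAR_iff.mp h
  refine isMLAR_iff.mpr ⟨r, fun {n k m} hk hm => ?_⟩
  haveI : ∀ j, Epi (S.g.app (op j)) := epi_g_app hS
  rw [← cancel_epi (S.g.app (op k)), comp_zero, tr_nat_assoc]
  have h1 : tr S.X₂ hm ≫ S.g.app (op n) ≫ cokernel.π (tr S.X₃ hm) = 0 := by
    rw [← tr_nat_assoc, cokernel.condition, comp_zero]
  rw [← cokernel.π_desc (tr S.X₂ hm) _ h1, reassoc_of% (hr hk hm), zero_comp]

theorem isMLAR_X₂ {S : ShortComplex (PS C)} (hS : S.ShortExact) (h₁ : IsMLAR S.X₁) (h₃ : IsMLAR S.X₃) :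
    IsMLAR S.X₂ := by
  obtain ⟨r, hr⟩ := isMLAR_iff.mp h₁
  obtain ⟨s, hs⟩ := isMLAR_iff.mp h₃
  refine isMLAR_iff.mpr ⟨r + s, fun {n k m} hk hm => ?_⟩
  haveI : ∀ j, Epi (S.g.app (op j)) := epi_g_app hS
  haveI : ∀ j, Mono (S.f.app (op j)) := mono_f_app hS
  obtain ⟨m', hm₁, hm₂⟩ : ∃ m', m ≤ m' ∧ n + r ≤ m' := ⟨max m (n + r), le_max_left _ _, le_max_right _ _⟩
  have hz : (tr S.X₂ (show n + r ≤ k by omega) ≫ S.g.app (op (n + r))) ≫ cokernel.π (tr S.X₃ hm₂) = 0 := by
    rw [← tr_nat, Category.assoc, hs (show (n + r) + s ≤ k by omega) hm₂, comp_zero]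
  obtain ⟨A, q, _, x, hx⟩ := (CokernelCofork.IsColimit.comp_π_eq_zero_iff_up_to_refinements
    (cokernelIsCokernel (tr S.X₃ hm₂)) _).mp hz
  obtain ⟨A', q', _, y, hy⟩ := surjective_up_to_refinements_of_epi (S.g.app (op m')) x
  have hd : (q' ≫ q ≫ tr S.X₂ (show n + r ≤ k by omega) - y ≫ tr S.X₂ hm₂) ≫ S.g.app (op (n + r)) = 0 := by
    rw [Preadditive.sub_comp, Category.assoc, Category.assoc, Category.assoc, hx, ← tr_nat,
      reassoc_of% hy, sub_self]
  have e : (shortExact_app hS (n + r)).exact.lift _ hd ≫ S.f.app (op (n + r)) = _ :=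
    (shortExact_app hS (n + r)).exact.lift_f _ hd
  have h1 : tr S.X₁ hm ≫ S.f.app (op n) ≫ cokernel.π (tr S.X₂ hm) = 0 := by
    rw [← tr_nat_assoc, cokernel.condition, comp_zero]
  have h2 : tr S.X₂ (show n ≤ m' by omega) ≫ cokernel.π (tr S.X₂ hm) = 0 := by
    rw [← tr_comp S.X₂ hm hm₁, Category.assoc, cokernel.condition, comp_zero]
  have h3 : (q' ≫ q ≫ tr S.X₂ (show n + r ≤ k by omega) - y ≫ tr S.X₂ hm₂) ≫
      tr S.X₂ (Nat.le_add_right n r) ≫ cokernel.π (tr S.X₂ hm) = 0 := by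
    rw [← e, Category.assoc, tr_nat_assoc, ← cokernel.π_desc (tr S.X₁ hm) _ h1,
      reassoc_of% (hr (le_refl (n + r)) hm), zero_comp, comp_zero]
  rw [Preadditive.sub_comp, Category.assoc, Category.assoc, Category.assoc, tr_comp_assoc, tr_comp_assoc,
    h2, comp_zero, sub_zero] at h3
  rw [← cancel_epi q, ← cancel_epi q', h3]
  simp

variable {X Y : PS C}

theorem isMLAR_iff_exists_strict : IsMLAR X ↔ ∃ (Y : PS C) (u : Y ⟶ X), IsStrict Y ∧ IsARIso u := by
  constructor
  · intro h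
    obtain ⟨r, hr⟩ := isMLAR_iff.mp h
    exact ⟨uim hr, uimι hr, isStrict_uim hr, isARIso_uimι hr⟩
  · rintro ⟨Y, u, hY, hu⟩
    exact (isMLAR_iff_of_isARIso hu).mp (isMLAR_of_isStrict hY)

lemma imageSubobject_image_ι {P Q : C} (f : P ⟶ Q) :
    imageSubobject (Abelian.image.ι f) = imageSubobject f :=
  le_antisymm ((imageSubobject_le_iff _ _).mpr (kernel.condition _))
    ((imageSubobject_le_iff _ _).mpr
      ((congrArg (fun t => t ≫ cokernel.π (Abelian.image.ι f)) (Abelian.image.fac f).symm).trans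
        ((Category.assoc _ _ _).trans
          ((congrArg (fun t => Abelian.factorThruImage f ≫ t) (cokernel.condition _)).trans comp_zero))))

theorem isMLAR_iff_universal_images : IsMLAR X ↔ IsML X ∧ ∃ (X' : PS C) (ι : X' ⟶ X), Mono ι ∧
    (∀ n : ℕ, ∃ r₀ : ℕ, ∀ r : ℕ, r₀ ≤ r → imageSubobject (ι.app (op n)) = imageSubobject (shiftMap X r n)) ∧
      IsARNull (cokernel ι) := by
  constructor
  · intro h
    obtain ⟨p, hp⟩ := isMLAR_iff.mp h
    refine ⟨fun n => ⟨p, fun s hs => stabAt_iff.mp hp s hs n⟩, uim hp, uimι hp, inferInstance,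
      fun n => ⟨p, fun r hr => ?_⟩, (isARIso_uimι hp).2⟩
    rw [stabAt_iff.mp hp r hr n]
    exact imageSubobject_image_ι (tr X (Nat.le_add_right n p))
  · rintro ⟨-, X', ι, -, himg, hnull⟩
    obtain ⟨r, hr⟩ := isARNull_iff.mp hnull
    refine isMLAR_iff.mpr ⟨r, stabAt_iff.mpr fun s hs n => le_antisymm ?_ ?_⟩
    · show imageSubobject (tr X (Nat.le_add_right n s)) ≤ imageSubobject (tr X (Nat.le_add_right n r))
      rw [← tr_comp X (Nat.le_add_right n r) (show n + r ≤ n + s by omega)]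
      exact imageSubobject_comp_le _ _
    · obtain ⟨r₀, hr₀⟩ := himg n
      have h1 : imageSubobject (shiftMap X r n) ≤ imageSubobject (ι.app (op n)) :=
        (imageSubobject_le_iff (shiftMap X r n) (ι.app (op n))).mpr
          ((cokernel_null_iff ι _).mp (hr (le_refl (n + r))))
      refine h1.trans ((hr₀ (max r₀ s) (le_max_left _ _)).le.trans ?_)
      show imageSubobject (tr X (Nat.le_add_right n (max r₀ s))) ≤ imageSubobject (tr X (Nat.le_add_right n s))
      rw [← tr_comp X (Nat.le_add_right n s) (show n + s ≤ n + max r₀ s by omega)]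
      exact imageSubobject_comp_le _ _

theorem isIso_limMap [HasLimitsOfShape ℕᵒᵖ C] {u : X ⟶ Y} (hu : IsARIso u) : IsIso (limMap u) := by
  obtain ⟨r, ⟨v⟩⟩ := isARIso_iff.mp hu
  let c : Cone X :=
    { pt := limit Y
      π :=
        { app := fun a => limit.π Y (op (a.unop + r)) ≫ v.inv (le_refl (a.unop + r))
          naturality := by
            rintro ⟨m⟩ ⟨n⟩ f
            have h : n ≤ m := leOfHom f.unop
            have hf : f = (homOfLE h).op := Subsingleton.elim _ _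
            subst hf
            show 𝟙 (limit Y) ≫ limit.π Y (op (n + r)) ≫ v.inv (le_refl (n + r)) =
              (limit.π Y (op (m + r)) ≫ v.inv (le_refl (m + r))) ≫ tr X h
            rw [Category.id_comp, Category.assoc, ← v.nat (le_refl (n + r)) (le_refl (m + r)) h (by omega),
              ← limit.w Y (homOfLE (show n + r ≤ m + r by omega)).op, Category.assoc] } }
  refine ⟨limit.lift X c, limit.hom_ext ?_, limit.hom_ext ?_⟩
  · rintro ⟨n⟩
    rw [Category.assoc, limit.lift_π, Category.id_comp]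
    show limMap u ≫ limit.π Y (op (n + r)) ≫ v.inv (le_refl (n + r)) = _
    rw [limMap_π_assoc, v.hom_inv, limit.w]
  · rintro ⟨n⟩
    rw [Category.assoc, limMap_π, limit.lift_π_assoc, Category.id_comp]
    show (limit.π Y (op (n + r)) ≫ v.inv (le_refl (n + r))) ≫ u.app (op n) = _
    rw [Category.assoc, v.inv_hom, limit.w]

end Groth.Agent.ARLib
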