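import Groth.Agent.ARLib.Graded
import Groth.Agent.ARLib.Stab

/-!
# Systems adic up to translation in short exact sequences
-/

universe w v u

open CategoryTheory CategoryTheory.Limits Opposite ARSys

namespace Groth.Agent.ARLib

variable {C : Type u} [Category.{v} C] [Abelian C] {A : Type w} [CommRing A] [Linear A C]
variable {J : Ideal A} {X Y : PS C}

lemma isMLAR_of_isARAdic (h : IsARAdic J X) : IsMLAR X := by
  obtain ⟨-, W, u, hW, hu⟩ := h
  exact (isMLAR_iff_of_isARIso hu).mp (isMLAR_of_isStrict (isStrict_of_isAdic hW))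

lemma exists_epi_of_adic_arIso {W : PS C} (hW : IsAdic J W) {u : W ⟶ X} (hu : IsARIso u) (n : ℕ) :
    ∃ (m : ℕ) (q : X.obj (op m) ⟶ W.obj (op n)), Epi q := by
  obtain ⟨r, ⟨v⟩⟩ := isARIso_iff.mp hu
  haveI := isQuot_epi (hW.2 n (n + r) (Nat.le_add_right n r))
  haveI : Epi (u.app (op (n + r)) ≫ v.inv (le_refl (n + r))) := by rw [v.hom_inv]; infer_instance
  exact ⟨n + r, v.inv (le_refl (n + r)), epi_of_epi (u.app (op (n + r))) _⟩

lemma isAdicNoeth_of_arIso {W : PS C} (hW : IsAdic J W) {u : W ⟶ X} (hu : IsARIso u)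
    (hX : ∀ n, IsNoetherianObject (X.obj (op n))) : IsAdicNoeth J W :=
  ⟨hW, fun n => by
    obtain ⟨m, q, hq⟩ := exists_epi_of_adic_arIso hW hu n
    haveI := hX m
    exact isNoetherianObject_of_epi q⟩

lemma noeth_of_mono (i : X ⟶ Y) [Mono i] (h : ∀ n, IsNoetherianObject (Y.obj (op n))) (n : ℕ) :
    IsNoetherianObject (X.obj (op n)) :=
  haveI := h n
  haveI := mono_app_of_mono i n
  isNoetherianObject_of_mono (i.app (op n))

lemma noeth_of_epi (p : X ⟶ Y) [Epi p] (h : ∀ n, IsNoetherianObject (X.obj (op n))) (n : ℕ) :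
    IsNoetherianObject (Y.obj (op n)) :=
  haveI := h n
  haveI : Epi (p.app (op n)) := inferInstanceAs (Epi (((evaluation ℕᵒᵖ C).obj (op n)).map p))
  isNoetherianObject_of_epi (p.app (op n))

section StrictSubsystem

variable {W : PS C} (ι : W ⟶ X) [Mono ι]

lemma fsub_factors_app {q n : ℕ} {T : C} {x : T ⟶ W.obj (op n)} (hx : (Fsub W q n).Factors x) :
    (Fsub X q n).Factors (x ≫ ι.app (op n)) := by
  rw [fsub_factors_iff] at hx ⊢
  intro k hk
  refine ⟨fun h => ?_, fun h => ?_⟩
  · rw [Category.assoc, tr_nat, reassoc_of% ((hx k hk).1 h), zero_comp]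
  · rw [(hx k hk).2 h, zero_comp]

include ι in
lemma isAdapted_of_mono (hX : IsAdapted J X) : IsAdapted J W := fun n p hp a ha => by
  haveI := mono_app_of_mono ι n
  have hf := fsub_factors_app ι (Subobject.factors_self (Fsub W (n + 1 - p) n))
  rw [← cancel_mono (ι.app (op n)), zero_comp, Category.assoc, Linear.smul_comp, Category.id_comp,
    ← Category.comp_id (ι.app (op n)), ← Linear.comp_smul, ← Category.assoc,
    ← Subobject.factorThru_arrow _ _ hf, Category.assoc, hX n p hp a ha, comp_zero]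

/-- Graded submodules of a strict subsystem are graded submodules of the system. -/
lemma isGrSub_push (hX : IsAdapted J X) (hW : IsStrict W) {M : (q : ℕ) → Subobject (W.obj (op q))}
    (hM : IsGrSub J W M) : IsGrSub J X fun q => imageSubobject ((M q).arrow ≫ ι.app (op q)) := by
  have hA := isAdapted_iff.mp hX
  refine ⟨fun q => (imageSubobject_le_iff_factors _ _).mpr
    (fsub_factors_app ι (Subobject.factors_of_le _ (hM.1 q) (Subobject.factors_self _))), fun p q a ha => ?_⟩
  let P := (Subobject.pullback (tr X (Nat.le_add_left q p))).obj (imageSubobject ((M q).arrow ≫ ι.app (op q)))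
  show imageSubobject (P.arrow ≫ (a • 𝟙 _)) ≤ _
  have hP := (pullback_factors_iff (tr X (Nat.le_add_left q p))
    (imageSubobject ((M q).arrow ≫ ι.app (op q))) P.arrow).mp (Subobject.factors_self _)
  obtain ⟨T, π, _, z, hz⟩ := (factors_iff_refinements _ _).mp hP
  haveI := hW q (p + q) (Nat.le_add_left q p)
  obtain ⟨T', π', _, y, hy⟩ := surjective_up_to_refinements_of_epi (tr W (Nat.le_add_left q p)) (z ≫ (M q).arrow)
  rw [imageSubobject_le_iff_factors]
  let d := π' ≫ π ≫ P.arrow - y ≫ ι.app (op (p + q))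
  have hd : d ≫ tr X (Nat.le_add_left q p) = 0 := by
    simp only [d, Preadditive.sub_comp, Category.assoc]
    rw [hz, tr_nat, ← reassoc_of% hy, sub_self]
  have hdF : (Fsub X (q + 1) (p + q)).Factors d := (fsub_factors_iff d).mpr fun k hk => by
    obtain rfl : k = q := by omega
    exact ⟨fun _ => hd, fun h => absurd h (by omega)⟩
  have h0 : d ≫ (a • 𝟙 (X.obj (op (p + q)))) = 0 := by
    have := ((fsub_factors_iff _).mp ((imageSubobject_le_iff_factors _ _).mp (hA (p + q) p (q + 1) a ha))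
      (p + q) (by omega)).1 le_rfl
    rw [tr_self, Category.comp_id] at this
    rw [← Subobject.factorThru_arrow _ _ hdF, Category.assoc, this, comp_zero]
  have hyM : (M (p + q)).Factors (y ≫ (a • 𝟙 (W.obj (op (p + q))))) := by
    have hy' : ((Subobject.pullback (tr W (Nat.le_add_left q p))).obj (M q)).Factors y := by
      rw [pullback_factors_iff, ← hy, ← Category.assoc]
      exact Subobject.factors_comp_arrow _
    have h := (factors_iff_comp_cokernel_eq_zero _ _).mp ((imageSubobject_le_iff_factors _ _).mp (hM.2 p q a ha))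
    rw [factors_iff_comp_cokernel_eq_zero, ← Subobject.factorThru_arrow _ _ hy', Category.assoc, Category.assoc]
    rw [Category.assoc] at h
    rw [h, comp_zero]
  refine factors_of_epi (π' ≫ π) _ ((factors_iff_refinements _ _).mpr
    ⟨_, 𝟙 T', inferInstance, (M (p + q)).factorThru _ hyM, ?_⟩)
  rw [Subobject.factorThru_arrow_assoc, Category.id_comp, Category.assoc π' π]
  simp only [d, Preadditive.sub_comp, Category.assoc, Linear.comp_smul, Linear.smul_comp, Category.comp_id,
    Category.id_comp] at h0 ⊢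
  rw [← sub_eq_zero, ← smul_sub]
  exact h0

include ι in
/-- A strict subsystem of an adic Noetherian system is adic up to translation. -/
theorem isARAdic_of_strict_sub [IsNoetherianRing A] (hX : IsAdicNoeth J X) (hW : IsStrict W) :
    IsARAdic J W := by
  have hA := isAdapted_of_isAdic hX.1
  refine isARAdic_of_grsFiniteType (fg_or_of_noetherian J) hW (isAdapted_of_mono ι hA) fun M hM hmono hlub => ?_
  obtain ⟨i₀, hi₀⟩ := isGrSub_chain_stationary hX
    (fun i q => imageSubobject ((M i q).arrow ≫ ι.app (op q))) (fun i => isGrSub_push ι hA hW (hM i))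
    (fun i j hij q => by
      show imageSubobject _ ≤ imageSubobject _
      rw [← Subobject.ofLE_arrow (hmono hij q), Category.assoc]
      exact imageSubobject_comp_le _ _)
  refine ⟨i₀, fun q => le_antisymm ((hM i₀).1 q) ((hlub q).2 ?_)⟩
  rintro _ ⟨i, rfl⟩
  rcases le_total i i₀ with h | h
  · exact hmono h q
  · have e := (imageSubobject_le_iff _ _).mp (congrFun (hi₀ i h) q).le
    obtain ⟨T, π, _, x, hx⟩ := (CokernelCofork.IsColimit.comp_π_eq_zero_iff_up_to_refinements
      (cokernelIsCokernel ((M i₀ q).arrow ≫ ι.app (op q))) _).mp e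
    haveI := mono_app_of_mono ι q
    rw [← Category.assoc, ← Category.assoc, cancel_mono] at hx
    refine (le_iff_arrow_comp_cokernel _ _).mpr ?_
    rw [← cancel_epi π, comp_zero, reassoc_of% hx, cokernel.condition, comp_zero]

end StrictSubsystem

section ShortExact

variable {S : ShortComplex (PS C)}

/-- In a short exact sequence, kernels of Noetherian adic up to translation systems are such. -/
theorem isARAdicNoeth_X₁ [IsNoetherianRing A] (hS : S.ShortExact) (h₂ : IsARAdicNoeth J S.X₂)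
    (h₃ : IsARAdic J S.X₃) : IsARAdicNoeth J S.X₁ := by
  haveI := hS.mono_f
  haveI := hS.epi_g
  have h₁ : IsMLAR S.X₁ := isMLAR_X₁_of_isARAdic hS h₂.1.1 (isMLAR_of_isARAdic h₂.1) h₃
  refine ⟨?_, noeth_of_mono S.f h₂.2⟩
  obtain ⟨-, W, u, hW, hu⟩ := h₂.1
  have hWn := isAdicNoeth_of_arIso hW hu h₂.2
  let c := u ≫ S.g
  let a : kernel c ⟶ S.X₁ := hS.exact.lift (kernel.ι c ≫ u) (by rw [Category.assoc]; exact kernel.condition c)
  have ha : a ≫ S.f = kernel.ι c ≫ u := hS.exact.lift_f _ _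
  have haiso : IsARIso a := by
    obtain ⟨r, ⟨v⟩⟩ := isARIso_iff.mp hu
    haveI : ∀ n, Mono (S.f.app (op n)) := mono_f_app hS
    haveI : ∀ n, Mono ((kernel.ι c).app (op n)) := fun n =>
      inferInstanceAs (Mono (((evaluation ℕᵒᵖ C).obj (op n)).map (kernel.ι c)))
    have hlift : ∀ {n m : ℕ} (h : n + r ≤ m), ∃ b : S.X₁.obj (op m) ⟶ (kernel c).obj (op n),
        b ≫ (kernel.ι c).app (op n) = S.f.app (op m) ≫ v.inv h := fun {n m} h => by
      have hex := ((ShortComplex.exact_kernel c).map ((evaluation ℕᵒᵖ C).obj (op n)))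
      haveI : Mono (((ShortComplex.mk _ _ (kernel.condition c)).map ((evaluation ℕᵒᵖ C).obj (op n))).f) :=
        inferInstanceAs (Mono ((kernel.ι c).app (op n)))
      refine ⟨hex.lift (S.f.app (op m) ≫ v.inv h) ?_, hex.lift_f _ _⟩
      show (S.f.app (op m) ≫ v.inv h) ≫ (u ≫ S.g).app (op n) = 0
      rw [NatTrans.comp_app, Category.assoc, v.inv_hom_assoc, ← tr_nat, reassoc_of% (zero_app S m), zero_comp]
    choose b hb using @hlift
    have ha' : ∀ n, a.app (op n) ≫ S.f.app (op n) = (kernel.ι c).app (op n) ≫ u.app (op n) := fun n => by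
      rw [← NatTrans.comp_app, ← NatTrans.comp_app, ha]
    refine isARIso_of_inv (r := r)
      { inv := fun {n m} h => b h
        nat := fun {n n' m m'} h h' hn hm => ?_
        hom_inv := fun {n m} h => ?_
        inv_hom := fun {n m} h => ?_ }
    · rw [← cancel_mono ((kernel.ι c).app (op n)), Category.assoc, Category.assoc, ← tr_nat, hb,
        reassoc_of% (hb h'), ← tr_nat_assoc, v.nat h h' hn hm]
    · rw [← cancel_mono ((kernel.ι c).app (op n)), Category.assoc, hb, reassoc_of% (ha' m), v.hom_inv, tr_nat]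
    · rw [← cancel_mono (S.f.app (op n)), Category.assoc, ha', reassoc_of% (hb h), v.inv_hom, tr_nat]
  obtain ⟨p, hp⟩ := isMLAR_iff.mp ((isMLAR_iff_of_isARIso haiso).mpr h₁)
  exact isARAdic_of_arIso (uimι hp ≫ a) (isARIso_comp (isARIso_uimι hp) haiso)
    (isARAdic_of_strict_sub (uimι hp ≫ kernel.ι c) hWn (isStrict_uim hp)) (termKilled_of_mono S.f h₂.1.1)

/-- Reduction of an extension to a strict one over an adic system. -/
theorem exists_strict_reduction (hS : S.ShortExact) (k₂ : TermKilled J S.X₂) (h₂ : IsMLAR S.X₂)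
    (h₃ : IsARAdic J S.X₃) : ∃ (T : ShortComplex (PS C)) (φ : T ⟶ S), T.ShortExact ∧
      IsARIso φ.τ₁ ∧ IsARIso φ.τ₂ ∧ TermKilled J T.X₂ ∧ IsStrict T.X₂ ∧ IsStrict T.X₁ ∧ IsAdic J T.X₃ := by
  obtain ⟨-, W, u, hW, hu⟩ := h₃
  obtain ⟨r, ⟨v⟩⟩ := isARIso_iff.mp hu
  haveI := hS.mono_f
  haveI := hS.epi_g
  let E := pullback S.g u
  let p : E ⟶ S.X₂ := pullback.fst S.g u
  let q : E ⟶ W := pullback.snd S.g u
  have hsq : ∀ n, IsPullback (p.app (op n)) (q.app (op n)) (S.g.app (op n)) (u.app (op n)) := fun n =>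
    (IsPullback.of_hasPullback S.g u).map ((evaluation ℕᵒᵖ C).obj (op n))
  have hp : IsARIso p := by
    have hl : ∀ {n m : ℕ} (h : n + r ≤ m), ∃ l : S.X₂.obj (op m) ⟶ E.obj (op n),
        l ≫ p.app (op n) = tr S.X₂ (show n ≤ m by omega) ∧
          l ≫ q.app (op n) = S.g.app (op m) ≫ v.inv h := fun {n m} h =>
      ⟨(hsq n).lift (tr S.X₂ (show n ≤ m by omega)) (S.g.app (op m) ≫ v.inv h)
          (by rw [Category.assoc, v.inv_hom, tr_nat]),
        (hsq n).lift_fst _ _ _, (hsq n).lift_snd _ _ _⟩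
    choose l hl₁ hl₂ using @hl
    refine isARIso_of_inv (r := r)
      { inv := fun {n m} h => l h
        nat := fun {n n' m m'} h h' hn hm => ?_
        hom_inv := fun {n m} h => ?_
        inv_hom := fun {n m} h => hl₁ h }
    · refine (hsq n).hom_ext ?_ ?_
      · rw [Category.assoc, Category.assoc, hl₁ h, ← tr_nat, reassoc_of% (hl₁ h'), tr_comp, tr_comp]
      · rw [Category.assoc, Category.assoc, hl₂ h, ← tr_nat, reassoc_of% (hl₂ h'),
          ← tr_nat_assoc, v.nat h h' hn hm]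
    · refine (hsq n).hom_ext ?_ ?_
      · rw [Category.assoc, hl₁ h, tr_nat]
      · rw [Category.assoc, hl₂ h, reassoc_of% (hsq m).w, v.hom_inv, tr_nat]
  obtain ⟨s, hs⟩ := isMLAR_iff.mp ((isMLAR_iff_of_isARIso hp).mpr h₂)
  let i := uimι hs ≫ q
  have hi : ∀ n, Epi (i.app (op n)) := by
    have hstrict : IsStrict W := isStrict_of_isAdic hW
    intro n
    haveI : Epi (q.app (op n)) := by
      haveI := epi_g_app hS n
      rw [← (hsq n).isoPullback_hom_snd]
      infer_instance
    obtain ⟨t, ⟨w⟩⟩ := isARIso_iff.mp (isARIso_uimι hs)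
    haveI : ∀ k, Epi (q.app (op k)) := fun k => by
      haveI := epi_g_app hS k
      rw [← (hsq k).isoPullback_hom_snd]
      infer_instance
    haveI := hstrict n (n + t) (Nat.le_add_right n t)
    have : q.app (op (n + t)) ≫ tr W (Nat.le_add_right n t) = w.inv (le_refl (n + t)) ≫ i.app (op n) := by
      rw [NatTrans.comp_app, w.inv_hom_assoc, tr_nat]
    haveI : Epi (q.app (op (n + t)) ≫ tr W (Nat.le_add_right n t)) := epi_comp _ _
    exact epi_of_epi_fac (Eq.symm (by assumption))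
  haveI : Epi i := by
    haveI : ∀ a, Epi (i.app a) := fun a => hi a.unop
    exact NatTrans.epi_of_epi_app _
  let T : ShortComplex (PS C) := ShortComplex.mk (kernel.ι i) i (kernel.condition i)
  have hT : T.ShortExact := { exact := ShortComplex.exact_kernel i }
  have kE : TermKilled J (uim hs) := by
    intro n a ha
    have h1 : a • (uimι hs ≫ p).app (op n) = 0 := homKilledBy_of_target (k₂ n) _ a ha
    have h2 : a • i.app (op n) = 0 := homKilledBy_of_target (hW.1 n) _ a ha
    haveI : Mono ((uimι hs).app (op n)) :=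
      inferInstanceAs (Mono (((evaluation ℕᵒᵖ C).obj (op n)).map (uimι hs)))
    rw [← cancel_mono ((uimι hs).app (op n)), Linear.smul_comp, zero_comp, Category.id_comp]
    refine (hsq n).hom_ext ?_ ?_
    · rw [Linear.smul_comp, zero_comp]; exact h1
    · rw [Linear.smul_comp, zero_comp]; exact h2
  have hK := isStrict_X₁_of_adic hT kE (isStrict_uim hs) hW
  let φ : T ⟶ S :=
    { τ₁ := hS.exact.lift (kernel.ι i ≫ uimι hs ≫ p) (by
        rw [Category.assoc, Category.assoc, pullback.condition, ← Category.assoc (uimι hs) q]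
        exact kernel.condition_assoc i u |>.trans zero_comp)
      τ₂ := uimι hs ≫ p
      τ₃ := u
      comm₁₂ := hS.exact.lift_f _ _
      comm₂₃ := by
        show (uimι hs ≫ p) ≫ S.g = (uimι hs ≫ q) ≫ u
        rw [Category.assoc, Category.assoc, pullback.condition] }
  exact ⟨T, φ, hT, isARIso_τ₁ φ hT hS (isARIso_comp (isARIso_uimι hs) hp) hu,
    isARIso_comp (isARIso_uimι hs) hp, kE, isStrict_uim hs, hK, hW⟩

/-- An extension of an adic up to translation system by another is adic up to translation. -/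
theorem isARAdic_X₂_of_strict (hJ : J.FG ∨ HasCoproducts.{w} C) (hS : S.ShortExact) (k₂ : TermKilled J S.X₂)
    (s₂ : IsStrict S.X₂) (s₁ : IsStrict S.X₁) (h₁ : IsARAdic J S.X₁) (h₃ : IsAdic J S.X₃) :
    IsARAdic J S.X₂ := by
  obtain ⟨r, -, hr⟩ := subLEIdeal_of_isARAdic s₁ h₁
  refine isARAdic_of_subLEIdeal hJ s₂ k₂ (r := r) fun l T φ hφ => ?_
  cases l with
  | zero =>
    have : φ = 0 := by simpa using hφ 1 (by simp)
    rw [this, comp_zero]
  | succ n =>
  rw [fker_succ_arrow_comp]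
  have h : n ≤ n + 1 := Nat.le_succ n
  haveI : ∀ k, Epi (S.g.app (op k)) := epi_g_app hS
  haveI : ∀ k, Mono (S.f.app (op k)) := mono_f_app hS
  haveI := s₁ n (n + 1) h
  let Φ : S.X₂.obj (op (n + 1)) ⟶ T ⊞ S.X₂.obj (op n) := biprod.lift φ (tr S.X₂ h)
  have hΦ : HomKilledBy (J ^ (n + 1)) Φ := fun a ha => by
    refine biprod.hom_ext _ _ ?_ ?_
    · simp [Φ, hφ a (Ideal.pow_le_pow_right (Nat.sub_le _ r) ha)]
    · simp [Φ, homKilledBy_of_target (k₂ n) (tr S.X₂ h) a ha]
  have h0 : kernel.ι (tr S.X₁ h) ≫ S.f.app (op (n + 1)) ≫ Φ = 0 := by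
    refine biprod.hom_ext _ _ ?_ ?_
    · have := (fker_succ_arrow_comp _).mp (hr (n + 1) T (S.f.app (op (n + 1)) ≫ φ) (homKilledBy_comp _ hφ))
      simpa [Φ] using this
    · simp only [Φ, Category.assoc, biprod.lift_snd, zero_comp]
      rw [tr_nat, kernel.condition_assoc, zero_comp]
  let a' := Abelian.epiDesc (tr S.X₁ h) (S.f.app (op (n + 1)) ≫ Φ) h0
  have ha' : a' ≫ biprod.snd = S.f.app (op n) := by
    rw [← cancel_epi (tr S.X₁ h), ← Category.assoc, Abelian.comp_epiDesc, ← tr_nat]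
    simp [Φ]
  let π := cokernel.π a'
  have hz : S.f.app (op (n + 1)) ≫ Φ ≫ π = 0 := by
    rw [← Category.assoc, ← Abelian.comp_epiDesc (tr S.X₁ h) (S.f.app (op (n + 1)) ≫ Φ) h0, Category.assoc,
      cokernel.condition, comp_zero]
  let ψ := (shortExact_app hS (n + 1)).exact.desc (Φ ≫ π) hz
  have hψ : HomKilledBy (J ^ (n + 1)) ψ := by
    refine homKilledBy_of_epi (S.g.app (op (n + 1))) ?_
    erw [(shortExact_app hS (n + 1)).exact.g_desc]
    exact homKilledBy_comp_right π hΦ
  have hk : kernel.ι (tr S.X₂ h) ≫ Φ ≫ π = 0 := by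
    have e : Φ ≫ π = S.g.app (op (n + 1)) ≫ tr S.X₃ h ≫ qdesc (h₃.2 n (n + 1) h) ψ hψ := by
      rw [qdesc_fac]
      exact ((shortExact_app hS (n + 1)).exact.g_desc _ _).symm
    rw [e, tr_nat_assoc, kernel.condition_assoc, zero_comp]
  obtain ⟨T', q, hq, x, hx⟩ := (CokernelCofork.IsColimit.comp_π_eq_zero_iff_up_to_refinements
    (cokernelIsCokernel a') (kernel.ι (tr S.X₂ h) ≫ Φ)).mp ((Category.assoc _ _ _).trans hk)
  have hx0 : x = 0 := by
    have e := hx =≫ biprod.snd
    simp only [Category.assoc, ha', Φ, biprod.lift_snd, kernel.condition, comp_zero] at e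
    exact (cancel_mono (S.f.app (op n))).mp (e.symm.trans zero_comp.symm)
  have e := hx =≫ biprod.fst
  simp only [hx0, zero_comp, Category.assoc, Φ, biprod.lift_fst] at e
  rwa [← cancel_epi q, comp_zero]

/-- Extensions. -/
theorem isARAdic_X₂ (hJ : J.FG ∨ HasCoproducts.{w} C) (hS : S.ShortExact) (k₂ : TermKilled J S.X₂)
    (h₁ : IsARAdic J S.X₁) (h₃ : IsARAdic J S.X₃) : IsARAdic J S.X₂ := by
  obtain ⟨T, φ, hT, hτ₁, hτ₂, kT, s₂, s₁, hT₃⟩ := exists_strict_reduction hS k₂
    (isMLAR_X₂ hS (isMLAR_of_isARAdic h₁) (isMLAR_of_isARAdic h₃)) h₃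
  haveI := hT.mono_f
  exact isARAdic_of_arIso φ.τ₂ hτ₂ (isARAdic_X₂_of_strict hJ hT kT s₂ s₁
    (isARAdic_of_arIso' φ.τ₁ hτ₁ h₁ (termKilled_of_mono T.f kT)) hT₃) k₂

theorem isARAdicNoeth_X₂ [IsNoetherianRing A] (hS : S.ShortExact) (k₂ : TermKilled J S.X₂)
    (h₁ : IsARAdicNoeth J S.X₁) (h₃ : IsARAdicNoeth J S.X₃) : IsARAdicNoeth J S.X₂ :=
  ⟨isARAdic_X₂ (fg_or_of_noetherian J) hS k₂ h₁.1 h₃.1, fun n =>
    haveI := h₁.2 n
    haveI := h₃.2 n
    isNoetherianObject_of_shortExact (shortExact_app hS n)⟩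

theorem isARAdicArt_X₂ [IsNoetherianRing A] (hS : S.ShortExact) (k₂ : TermKilled J S.X₂)
    (h₁ : IsARAdicArt J S.X₁) (h₃ : IsARAdicArt J S.X₃) : IsARAdicArt J S.X₂ :=
  ⟨isARAdic_X₂ (fg_or_of_noetherian J) hS k₂ h₁.1 h₃.1, fun n =>
    haveI := h₁.2 n
    haveI := h₃.2 n
    isArtinianObject_of_shortExact (shortExact_app hS n)⟩

end ShortExact

/-- Kernels and cokernels. -/
theorem isARAdicNoeth_kernel_cokernel [IsNoetherianRing A] (u : X ⟶ Y) (hX : IsARAdicNoeth J X)
    (hY : IsARAdicNoeth J Y) : IsARAdicNoeth J (kernel u) ∧ IsARAdicNoeth J (cokernel u) := by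
  let e := Abelian.factorThruImage u
  let T₁ : ShortComplex (PS C) := ShortComplex.mk (Abelian.image.ι u) (cokernel.π u) (kernel.condition _)
  have hT₁ : T₁.ShortExact := { exact := ShortComplex.exact_kernel (cokernel.π u) }
  let T₂ : ShortComplex (PS C) := ShortComplex.mk (kernel.ι e) e (kernel.condition e)
  have hT₂ : T₂.ShortExact :=
    { exact := ShortComplex.exact_kernel e
      epi_g := inferInstanceAs (Epi (Abelian.factorThruImage u)) }
  have hc : IsARAdicNoeth J (cokernel u) :=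
    ⟨isARAdic_X₃_of_isMLAR hT₁ (termKilled_of_epi (cokernel.π u) hY.1.1)
      (isMLAR_X₃ hT₂ (isMLAR_of_isARAdic hX.1)) hY.1, noeth_of_epi (cokernel.π u) hY.2⟩
  refine ⟨?_, hc⟩
  have hI : IsARAdicNoeth J (Abelian.image u) := isARAdicNoeth_X₁ hT₁ hY hc.1
  have hK : IsARAdicNoeth J (kernel e) := isARAdicNoeth_X₁ hT₂ hX hI.1
  let i : kernel e ≅ kernel u :=
    (kernelCompMono e (Abelian.image.ι u)).symm ≪≫ kernelIsoOfEq (Abelian.image.fac u)
  exact ⟨isARAdic_of_arIso i.hom (isARIso_of_isIso _) hK.1 (termKilled_of_mono (kernel.ι u) hX.1.1),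
    noeth_of_mono (kernel.ι u) hX.2⟩

/-- Extensions of systems where the left part is exact up to a null system. -/
theorem isARAdic_of_exact_null (hJ : J.FG ∨ HasCoproducts.{w} C) {T Z : PS C} (a : T ⟶ X) (b : X ⟶ Y)
    (c : Y ⟶ Z) [Mono a] [Epi c] (wab : a ≫ b = 0) (wbc : b ≫ c = 0)
    (hab : (ShortComplex.mk a b wab).Exact) (hbc : (ShortComplex.mk b c wbc).Exact)
    (hT : IsARNull T) (hX : IsARAdic J X) (hY : TermKilled J Y) (hZ : IsARAdic J Z) : IsARAdic J Y := by
  let e := Abelian.factorThruImage b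
  have wι : Abelian.image.ι b ≫ c = 0 := by
    rw [← cancel_epi e, comp_zero, ← Category.assoc, Abelian.image.fac, wbc]
  have wae : a ≫ e = 0 := by
    rw [← cancel_mono (Abelian.image.ι b), zero_comp, Category.assoc, Abelian.image.fac, wab]
  let S₂ : ShortComplex (PS C) := ShortComplex.mk a e wae
  let φ₂ : S₂ ⟶ ShortComplex.mk a b wab :=
    { τ₁ := 𝟙 _, τ₂ := 𝟙 _, τ₃ := Abelian.image.ι b }
  have hS₂ : S₂.ShortExact :=
    { exact := (ShortComplex.exact_iff_of_epi_of_isIso_of_mono φ₂).mpr hab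
      epi_g := inferInstanceAs (Epi (Abelian.factorThruImage b)) }
  let S₁ : ShortComplex (PS C) := ShortComplex.mk (Abelian.image.ι b) c wι
  let φ₁ : ShortComplex.mk b c wbc ⟶ S₁ :=
    { τ₁ := e, τ₂ := 𝟙 _, τ₃ := 𝟙 _ }
  haveI : Epi φ₁.τ₁ := inferInstanceAs (Epi (Abelian.factorThruImage b))
  have hS₁ : S₁.ShortExact := { exact := (ShortComplex.exact_iff_of_epi_of_isIso_of_mono φ₁).mp hbc }
  have he : IsARIso e := by
    haveI : Epi e := inferInstanceAs (Epi (Abelian.factorThruImage b))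
    let K : ShortComplex (PS C) := ShortComplex.mk (kernel.ι e) e (kernel.condition e)
    let i : T ≅ kernel e := hS₂.fIsKernel.conePointUniqueUpToIso (limit.isLimit (parallelPair e 0))
    refine ⟨?_, ?_⟩
    · obtain ⟨r, hr⟩ := isARNull_iff.mp hT
      refine isARNull_iff.mpr ⟨r, fun {n m} h => ?_⟩
      haveI : IsIso (i.hom.app (op m)) := inferInstance
      rw [← cancel_epi (i.hom.app (op m)), tr_nat, hr h, zero_comp, comp_zero]
    · exact isARNull_iff.mpr ⟨0, fun {n m} h => (cokernel_null_iff e _).mpr (by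
        haveI : Epi (e.app (op n)) := inferInstanceAs (Epi (((evaluation ℕᵒᵖ C).obj (op n)).map e))
        exact (congrArg (fun t => tr _ _ ≫ t) (cokernel.π_of_epi (e.app (op n)))).trans comp_zero)⟩
  exact isARAdic_X₂ hJ hS₁ hY
    (isARAdic_of_arIso e he hX (termKilled_of_mono (Abelian.image.ι b) hY)) hZ

end Groth.Agent.ARLib
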