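import Groth.Agent.ARLib.Adic

/-!
# The filtration of a system by kernels, and finiteness of adic systems
-/

universe w v u

open CategoryTheory CategoryTheory.Limits Opposite ARSys

attribute [local instance] CategoryTheory.Abelian.hasFiniteBiproducts

namespace Groth.Agent.ARLib

variable {C : Type u} [Category.{v} C] [Abelian C] {A : Type w} [CommRing A] [Linear A C]
variable {J : Ideal A} {X : PS C}

section Fsub

omit [Linear A C] in
lemma fsub_factors_iff {q n : ℕ} {T : C} (x : T ⟶ X.obj (op n)) :
    (Fsub X q n).Factors x ↔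
      ∀ k, k + 1 = q → (∀ h : k ≤ n, x ≫ tr X h = 0) ∧ (n < k → x = 0) := by
  match q with
  | 0 =>
    exact ⟨fun _ k hk => absurd hk (Nat.succ_ne_zero k), fun _ => Subobject.top_factors _⟩
  | k + 1 =>
    by_cases h : k ≤ n
    · have e : Fsub X (k + 1) n = kernelSubobject (tr X h) := dif_pos h
      rw [e, kernelSubobject_factors_iff]
      refine ⟨fun hx j hj => ?_, fun H => (H k rfl).1 h⟩
      obtain rfl : j = k := by omega
      exact ⟨fun _ => hx, fun hjn => absurd h (by omega)⟩
    · have e : Fsub X (k + 1) n = ⊥ := dif_neg h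
      rw [e, Subobject.bot_factors_iff_zero]
      refine ⟨fun hx j hj => ⟨fun _ => by rw [hx, zero_comp], fun _ => hx⟩, fun H => (H k rfl).2 (by omega)⟩

omit [Linear A C] in
lemma imageSubobject_le_iff_factors {P Q : C} (f : P ⟶ Q) (S : Subobject Q) :
    imageSubobject f ≤ S ↔ S.Factors f :=
  ⟨fun h => Subobject.factors_of_le f h (by simpa using imageSubobject_factors_comp_self f (𝟙 P)),
    fun h => imageSubobject_le f (S.factorThru f h) (S.factorThru_arrow f h)⟩

lemma smul_id_tr {a : A} {n m : ℕ} (h : n ≤ m) :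
    (a • 𝟙 (X.obj (op m))) ≫ tr X h = tr X h ≫ (a • 𝟙 (X.obj (op n))) := by
  rw [Linear.smul_comp, Linear.comp_smul, Category.id_comp, Category.comp_id]

/-- Adapted systems: the filtration is compatible with the powers of the ideal. -/
theorem isAdapted_iff :
    IsAdapted J X ↔ ∀ (n p q : ℕ), ∀ a ∈ J ^ p,
      imageSubobject ((Fsub X q n).arrow ≫ (a • 𝟙 (X.obj (op n)))) ≤ Fsub X (p + q) n := by
  constructor
  · intro H n p q a ha
    rw [imageSubobject_le_iff_factors, fsub_factors_iff]
    intro k hk
    have hF : ∀ {j : ℕ}, j + 1 = q → _ := fun {j} hj =>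
      ((fsub_factors_iff (X := X) (q := q) (n := n) (Fsub X q n).arrow).mp (Subobject.factors_self _)) j hj
    refine ⟨fun h => ?_, fun h => ?_⟩
    · rw [Category.assoc, smul_id_tr, ← Category.assoc]
      have hfac : (Fsub X q k).Factors ((Fsub X q n).arrow ≫ tr X h) := by
        rw [fsub_factors_iff]
        intro j hj
        refine ⟨fun h' => ?_, fun h' => ?_⟩
        · rw [Category.assoc, tr_comp]
          exact (hF hj).1 _
        · omega
      have h0 := H k p (by omega) a ha
      rw [show k + 1 - p = q by omega] at h0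
      rw [← Subobject.factorThru_arrow _ _ hfac, Category.assoc, h0, comp_zero]
    · rcases le_or_gt q (n + 1) with hq | hq
      · have h0 := H n (n + 1 - q) (Nat.sub_le _ _) a (Ideal.pow_le_pow_right (by omega) ha)
        rwa [show n + 1 - (n + 1 - q) = q by omega] at h0
      · have e : (Fsub X q n).arrow = 0 := (hF (j := q - 1) (by omega)).2 (by omega)
        rw [e, zero_comp]
  · intro H n p hp a ha
    have h := H n p (n + 1 - p) a ha
    rw [imageSubobject_le_iff_factors, fsub_factors_iff] at h
    have := (h n (by omega)).1 le_rfl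
    rwa [tr_self, Category.comp_id] at this

end Fsub

section Finite

/-- The step: an extension of a quotient of the previous term by a quotient of finitely many
copies of the first term. -/
theorem exists_shortExact_step [IsNoetherianRing A] (hX : IsAdic J X) (n : ℕ) :
    ∃ (k : ℕ) (S : ShortComplex C) (p : (⨁ fun _ : Fin k => X.obj (op 0)) ⟶ S.X₁)
      (q : X.obj (op n) ⟶ S.X₃), S.ShortExact ∧ Epi p ∧ Epi q ∧ S.X₂ = X.obj (op (n + 1)) := by
  obtain ⟨k, g, hg⟩ := Submodule.fg_iff_exists_fin_generating_family.mp (IsNoetherian.noetherian (J ^ (n + 1)))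
  have hgI : ∀ i, g i ∈ J ^ (n + 1) := fun i => hg ▸ Submodule.subset_span ⟨i, rfl⟩
  have hk : ∀ i, HomKilledBy (J ^ (0 + 1)) (g i • 𝟙 (X.obj (op (n + 1)))) := fun i a ha => by
    rw [smul_smul]
    refine hX.1 (n + 1) _ ?_
    rw [pow_succ' J (n + 1)]
    exact Ideal.mul_mem_mul (by simpa using ha) (hgI i)
  let Φ : (⨁ fun _ : Fin k => X.obj (op 0)) ⟶ X.obj (op (n + 1)) :=
    biproduct.desc fun i => qdesc (hX.2 0 (n + 1) (Nat.zero_le _)) _ (hk i)
  have hπ : HomKilledBy (J ^ (n + 1)) (cokernel.π Φ) := by
    have hi : ∀ i, g i • cokernel.π Φ = 0 := fun i => by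
      have e : tr X (Nat.zero_le (n + 1)) ≫ biproduct.ι (fun _ : Fin k => X.obj (op 0)) i ≫ Φ =
          g i • 𝟙 (X.obj (op (n + 1))) := by
        simp only [Φ, biproduct.ι_desc]
        exact qdesc_fac _ _ _
      rw [← Category.id_comp (cokernel.π Φ), ← Linear.smul_comp, ← e, Category.assoc, Category.assoc,
        cokernel.condition, comp_zero, comp_zero]
    intro a ha
    rw [← hg] at ha
    induction ha using Submodule.span_induction with
    | mem x hx => obtain ⟨i, rfl⟩ := hx; exact hi i
    | zero => simp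
    | add x y _ _ hx hy => rw [add_smul, hx, hy, add_zero]
    | smul c x _ hx => rw [smul_eq_mul, mul_smul, hx, smul_zero]
  let χ := qdesc (hX.2 n (n + 1) (Nat.le_succ n)) (cokernel.π Φ) hπ
  haveI : Epi χ := by
    haveI : Epi (tr X (Nat.le_succ n) ≫ χ) := by rw [qdesc_fac]; infer_instance
    exact epi_of_epi (tr X (Nat.le_succ n)) χ
  exact ⟨k, ShortComplex.mk (Abelian.image.ι Φ) (cokernel.π Φ) (kernel.condition _),
    Abelian.factorThruImage Φ, χ, { exact := ShortComplex.exact_kernel (cokernel.π Φ) },
    inferInstanceAs (Epi (Abelian.factorThruImage Φ)), inferInstanceAs (Epi χ), rfl⟩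

theorem isNoetherianObject_of_isAdic [IsNoetherianRing A] (hX : IsAdic J X)
    (h0 : IsNoetherianObject (X.obj (op 0))) (n : ℕ) : IsNoetherianObject (X.obj (op n)) := by
  induction n with
  | zero => exact h0
  | succ n ih =>
    obtain ⟨k, S, p, q, hS, hp, hq, e⟩ := exists_shortExact_step hX n
    haveI := isNoetherianObject_biproduct (fun _ : Fin k => X.obj (op 0)) fun _ => h0
    haveI := isNoetherianObject_of_epi p
    haveI := isNoetherianObject_of_epi q
    exact e ▸ isNoetherianObject_of_shortExact hS

theorem isArtinianObject_of_isAdic [IsNoetherianRing A] (hX : IsAdic J X)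
    (h0 : IsArtinianObject (X.obj (op 0))) (n : ℕ) : IsArtinianObject (X.obj (op n)) := by
  induction n with
  | zero => exact h0
  | succ n ih =>
    obtain ⟨k, S, p, q, hS, hp, hq, e⟩ := exists_shortExact_step hX n
    haveI := isArtinianObject_biproduct (fun _ : Fin k => X.obj (op 0)) fun _ => h0
    haveI := isArtinianObject_of_epi p
    haveI := isArtinianObject_of_epi q
    exact e ▸ isArtinianObject_of_shortExact hS

end Finite

end Groth.Agent.ARLib
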