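import Groth.Agent.ARLib.Filt
import Mathlib.Order.ModularLattice
import Mathlib.Order.OrderIsoNat
import Mathlib.Order.Hom.Basic
import Mathlib.Data.Fin.Tuple.Basic

/-!
# Lattices of subobjects, and ascending chains of monotone families indexed by monomials
-/

universe v u

open CategoryTheory CategoryTheory.Limits

namespace Groth.Agent.ARLib

variable {C : Type u} [Category.{v} C] [Abelian C]

lemma factors_iff_refinements {T P Q : C} (a : T ⟶ Q) (g : P ⟶ Q) :
    (imageSubobject g).Factors a ↔ ∃ (T' : C) (π : T' ⟶ T) (_ : Epi π) (x : T' ⟶ P), π ≫ a = x ≫ g := by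
  rw [← imageSubobject_le_iff_factors, imageSubobject_le_iff]
  exact CokernelCofork.IsColimit.comp_π_eq_zero_iff_up_to_refinements (cokernelIsCokernel g) a

lemma sup_eq_image {X : C} (S T : Subobject X) : S ⊔ T = imageSubobject (biprod.desc S.arrow T.arrow) := by
  refine le_antisymm (sup_le ?_ ?_) ?_
  · refine Subobject.le_of_comm (biprod.inl ≫ factorThruImageSubobject (biprod.desc S.arrow T.arrow)) ?_
    simp
  · refine Subobject.le_of_comm (biprod.inr ≫ factorThruImageSubobject (biprod.desc S.arrow T.arrow)) ?_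
    simp
  · rw [imageSubobject_le_iff_factors, factors_iff_comp_cokernel_eq_zero]
    refine biprod.hom_ext' _ _ ?_ ?_
    · simpa using (le_iff_arrow_comp_cokernel S (S ⊔ T)).mp le_sup_left
    · simpa using (le_iff_arrow_comp_cokernel T (S ⊔ T)).mp le_sup_right

/-- Subobject lattices of an abelian category are modular. -/
lemma sup_inf_le {X : C} {S : Subobject X} (T : Subobject X) {U : Subobject X} (h : S ≤ U) :
    (S ⊔ T) ⊓ U ≤ S ⊔ (T ⊓ U) := by
  have h1 : (S ⊔ T).Factors ((S ⊔ T) ⊓ U).arrow := Subobject.inf_arrow_factors_left _ _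
  have h2 : U.Factors ((S ⊔ T) ⊓ U).arrow := Subobject.inf_arrow_factors_right _ _
  obtain ⟨A, π, _, x, hx⟩ := (factors_iff_refinements _ _).mp (Subobject.factors_of_le _ (sup_eq_image S T).le h1)
  have hb : (T ⊓ U).Factors ((x ≫ biprod.snd) ≫ T.arrow) := by
    refine (Subobject.inf_factors _).mpr ⟨Subobject.factors_comp_arrow _, ?_⟩
    have e : (x ≫ biprod.snd) ≫ T.arrow = π ≫ ((S ⊔ T) ⊓ U).arrow - (x ≫ biprod.fst) ≫ S.arrow := by
      rw [hx, biprod.desc_eq, Preadditive.comp_add]
      simp
    rw [e, factors_iff_comp_cokernel_eq_zero, Preadditive.sub_comp, Category.assoc π,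
      (factors_iff_comp_cokernel_eq_zero U _).mp h2, Category.assoc _ S.arrow,
      (le_iff_arrow_comp_cokernel S U).mp h, comp_zero, comp_zero, sub_zero]
  refine (le_iff_arrow_comp_cokernel _ _).mpr ?_
  have e1 : S.arrow ≫ cokernel.π (S ⊔ T ⊓ U).arrow = 0 := (le_iff_arrow_comp_cokernel _ _).mp le_sup_left
  have e2 : ((x ≫ biprod.snd) ≫ T.arrow) ≫ cokernel.π (S ⊔ T ⊓ U).arrow = 0 :=
    (factors_iff_comp_cokernel_eq_zero _ _).mp (Subobject.factors_of_le _ le_sup_right hb)
  rw [← cancel_epi π, comp_zero, ← Category.assoc, hx, biprod.desc_eq, Preadditive.comp_add,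
    Preadditive.add_comp]
  simp only [Category.assoc] at e2 ⊢
  rw [e1, e2, comp_zero, comp_zero, add_zero]

instance isModularLattice_subobject (X : C) : IsModularLattice (Subobject X) :=
  ⟨fun {_} T {_} h => sup_inf_le T h⟩

section Orders

/-- Monotone sequences in an order with the ascending chain condition satisfy it as well. -/
theorem wellFoundedGT_natHom (L : Type*) [PartialOrder L] [WellFoundedGT L] : WellFoundedGT (ℕ →o L) := by
  rw [wellFoundedGT_iff_monotone_chain_condition]
  intro f
  have hi : ∀ n, Monotone fun i => f i n := fun n i j hij => f.monotone hij n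
  obtain ⟨d, hd⟩ := wellFoundedGT_iff_monotone_chain_condition.mp (inferInstanceAs (WellFoundedGT L))
    ⟨fun i => f i i, fun i j hij => (hi i hij).trans ((f j).monotone hij)⟩
  choose c hc using fun n => wellFoundedGT_iff_monotone_chain_condition.mp (inferInstanceAs (WellFoundedGT L))
    (⟨fun i => f i n, hi n⟩ : ℕ →o L)
  refine ⟨max d ((Finset.range d).sup c), fun i hij => OrderHom.ext _ _ (funext fun n => ?_)⟩
  rcases lt_or_ge n d with hn | hn
  · have hc' : c n ≤ max d ((Finset.range d).sup c) :=
      le_max_of_le_right (Finset.le_sup (Finset.mem_range.mpr hn))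
    exact (hc n _ hc').symm.trans (hc n i (hc'.trans hij))
  · refine le_antisymm (hi n hij) ?_
    calc f i n ≤ f (max i n) n := hi n (le_max_left i n)
      _ ≤ f (max i n) (max i n) := (f _).monotone (le_max_right i n)
      _ = f d d := (hd (max i n) (hn.trans (le_max_right i n))).symm
      _ ≤ f (max d ((Finset.range d).sup c)) d := hi d (le_max_left _ _)
      _ ≤ f (max d ((Finset.range d).sup c)) n := (f _).monotone hn

/-- The ascending chain condition for monotone families indexed by monomials. -/
theorem wellFoundedGT_monomialHom (L : Type*) [PartialOrder L] [WellFoundedGT L] (r : ℕ) :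
    WellFoundedGT ((Fin r → ℕ) →o L) := by
  induction r with
  | zero =>
    have h : StrictMono fun f : (Fin 0 → ℕ) →o L => f 0 := by
      refine Monotone.strictMono_of_injective (fun f g hfg => hfg 0) fun f g hfg => ?_
      exact OrderHom.ext _ _ (funext fun e => by rw [Subsingleton.elim e 0]; exact hfg)
    exact h.wellFoundedGT
  | succ r ih =>
    haveI := wellFoundedGT_natHom ((Fin r → ℕ) →o L)
    let Φ : ((Fin (r + 1) → ℕ) →o L) → (ℕ →o ((Fin r → ℕ) →o L)) := fun f =>
      ⟨fun k => ⟨fun e => f (Fin.cons k e), fun e e' h => f.monotone (Fin.cons_le_cons.mpr ⟨le_rfl, h⟩)⟩,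
        fun k k' h e => f.monotone (Fin.cons_le_cons.mpr ⟨h, le_rfl⟩)⟩
    have h : StrictMono Φ := by
      refine Monotone.strictMono_of_injective (fun f g hfg k e => hfg _) fun f g hfg => ?_
      refine OrderHom.ext _ _ (funext fun e => ?_)
      have := congrArg (fun F : ℕ →o ((Fin r → ℕ) →o L) => F (e 0) (Fin.tail e)) hfg
      have e1 : f (Fin.cons (e 0) (Fin.tail e)) = g (Fin.cons (e 0) (Fin.tail e)) := this
      rwa [Fin.cons_self_tail] at e1
    exact h.wellFoundedGT

end Orders

end Groth.Agent.ARLib
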