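import Groth.Agent.ARLib.GrAux
import Mathlib.Order.Hom.Basic
import Mathlib.Order.PiLex
import Mathlib.Algebra.Order.Antidiag.Pi
import Mathlib.RingTheory.Ideal.Operations

/-!
# Graded submodules of the strict graded object of an adic system
-/

universe w v u

open CategoryTheory CategoryTheory.Limits Opposite ARSys
open scoped Classical

namespace Groth.Agent.ARLib

variable {C : Type u} [Category.{v} C] [Abelian C] {A : Type w} [CommRing A] [Linear A C]
variable {J : Ideal A} {X : PS C}

lemma pullback_factors_iff {P Q T : C} (f : P ⟶ Q) (S : Subobject Q) (a : T ⟶ P) :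
    ((Subobject.pullback f).obj S).Factors a ↔ S.Factors (a ≫ f) := by
  refine ⟨fun h => (Subobject.factors_iff _ _).mpr
    ⟨((Subobject.pullback f).obj S).factorThru a h ≫ Subobject.pullbackπ f S, ?_⟩, fun h => ?_⟩
  · show (_ ≫ _) ≫ S.arrow = _
    rw [Category.assoc, (Subobject.isPullback f S).w, Subobject.factorThru_arrow_assoc]
  · refine (Subobject.factors_iff _ _).mpr
      ⟨(Subobject.isPullback f S).lift (S.factorThru (a ≫ f) h) a (S.factorThru_arrow _ h), ?_⟩
    exact (Subobject.isPullback f S).lift_snd _ _ _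

lemma le_pullback_iff {P Q : C} (f : P ⟶ Q) (S : Subobject Q) (T : Subobject P) :
    T ≤ (Subobject.pullback f).obj S ↔ S.Factors (T.arrow ≫ f) := by
  rw [← pullback_factors_iff]
  exact ⟨fun h => Subobject.factors_of_le _ h (Subobject.factors_self T), fun h =>
    Subobject.le_of_comm (((Subobject.pullback f).obj S).factorThru _ h) (Subobject.factorThru_arrow _ _ h)⟩

lemma factors_of_epi {T T' Q : C} (π : T' ⟶ T) [Epi π] (S : Subobject Q) {a : T ⟶ Q}
    (h : S.Factors (π ≫ a)) : S.Factors a := by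
  rw [factors_iff_comp_cokernel_eq_zero] at h ⊢
  rwa [← cancel_epi π, comp_zero, ← Category.assoc]

/-- The filtration is killed by morphisms killed by the corresponding power of the ideal. -/
lemma fsub_arrow_comp (hX : IsAdic J X) {q n : ℕ} {T : C} {φ : X.obj (op n) ⟶ T}
    (hφ : HomKilledBy (J ^ q) φ) : (Fsub X q n).arrow ≫ φ = 0 := by
  rcases Nat.eq_zero_or_eq_succ_pred q with hq | hq
  · have : φ = 0 := by simpa using hφ 1 (by simp [hq])
    rw [this, comp_zero]
  · obtain ⟨h₁, h₂⟩ := (fsub_factors_iff (Fsub X q n).arrow).mp (Subobject.factors_self _) (q - 1) (by omega)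
    rcases le_or_gt (q - 1) n with h | h
    · have hq' : q - 1 + 1 = q := by omega
      rw [← qdesc_fac (hX.2 (q - 1) n h) φ (hq'.symm ▸ hφ), ← Category.assoc, h₁ h, zero_comp]
    · rw [h₂ h, zero_comp]

theorem isAdapted_of_isAdic (hX : IsAdic J X) : IsAdapted J X := fun n p hp a ha => by
  refine fsub_arrow_comp hX fun b hb => ?_
  rw [smul_smul]
  refine hX.1 n _ ?_
  rw [show n + 1 = n + 1 - p + p by omega, pow_add]
  exact Ideal.mul_mem_mul hb ha

section Mu

/-- Multiplication between the terms of an adic system. -/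
noncomputable def mu (J : Ideal A) (X : PS C) (a : A) (q m : ℕ) : X.obj (op q) ⟶ X.obj (op m) :=
  if h : ∃ ψ : X.obj (op q) ⟶ X.obj (op m), ∃ hqm : q ≤ m, tr X hqm ≫ ψ = a • 𝟙 _ then h.choose else 0

lemma mu_fac (hX : IsAdic J X) {a : A} {p q m : ℕ} (hpq : p + q = m) (ha : a ∈ J ^ p) :
    tr X (show q ≤ m by omega) ≫ mu J X a q m = a • 𝟙 _ := by
  have hk : HomKilledBy (J ^ (q + 1)) (a • 𝟙 (X.obj (op m))) := fun b hb => by
    rw [smul_smul]
    refine hX.1 m _ ?_
    rw [show m + 1 = q + 1 + p by omega, pow_add]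
    exact Ideal.mul_mem_mul hb ha
  have h : ∃ ψ : X.obj (op q) ⟶ X.obj (op m), ∃ hqm : q ≤ m, tr X hqm ≫ ψ = a • 𝟙 _ :=
    ⟨_, by omega, qdesc_fac (hX.2 q m (by omega)) _ hk⟩
  rw [mu, dif_pos h]
  exact h.choose_spec.choose_spec

lemma mu_comp (hX : IsAdic J X) {a b : A} {p p' q m : ℕ} (hp : p + 0 = q) (hp' : p' + q = m) (ha : a ∈ J ^ p)
    (hb : b ∈ J ^ p') : mu J X a 0 q ≫ mu J X b q m = mu J X (b * a) 0 m := by
  have h₁ := mu_fac hX hp ha
  have h₂ := mu_fac hX hp' hb
  have h₃ := mu_fac hX (show p' + p + 0 = m by omega) (show b * a ∈ J ^ (p' + p) from pow_add J p' p ▸ Ideal.mul_mem_mul hb ha)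
  haveI := isQuot_epi (hX.2 0 m (Nat.zero_le m))
  rw [← cancel_epi (tr X (Nat.zero_le m)), h₃, ← tr_comp X (Nat.zero_le q) (show q ≤ m by omega), Category.assoc,
    reassoc_of% h₁, Linear.smul_comp, Category.id_comp, Linear.comp_smul, h₂, smul_smul, mul_comm a b]

lemma mu_one (hX : IsAdic J X) {a : A} (ha : a = 1) : mu J X a 0 0 = 𝟙 _ := by
  have h := mu_fac hX (show 0 + 0 = 0 from rfl) (show a ∈ J ^ 0 by simp)
  rw [tr_self, Category.id_comp, ha, one_smul] at h
  rw [ha, h]

/-- The product of a member of a graded submodule. -/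
lemma factors_mu (hX : IsAdic J X) {M : (q : ℕ) → Subobject (X.obj (op q))} (hM : IsGrSub J X M)
    {a : A} {p q m : ℕ} (hpq : p + q = m) (ha : a ∈ J ^ p) :
    (M m).Factors ((M q).arrow ≫ mu J X a q m) := by
  subst hpq
  haveI := isQuot_epi (hX.2 q (p + q) (Nat.le_add_left q p))
  obtain ⟨T, π, _, y, hy⟩ := surjective_up_to_refinements_of_epi (tr X (Nat.le_add_left q p)) (M q).arrow
  refine factors_of_epi π _ ?_
  rw [← Category.assoc, hy, Category.assoc, mu_fac hX rfl ha]
  have hyP : ((Subobject.pullback (tr X (Nat.le_add_left q p))).obj (M q)).Factors y := by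
    rw [pullback_factors_iff, ← hy]
    exact Subobject.factors_comp_arrow π
  have := (imageSubobject_le_iff_factors _ _).mp (hM.2 p q a ha)
  rw [← Subobject.factorThru_arrow _ _ hyP, Category.assoc]
  exact (factors_iff_comp_cokernel_eq_zero _ _).mpr (by
    rw [Category.assoc, (factors_iff_comp_cokernel_eq_zero _ _).mp this, comp_zero])

end Mu

section Monomials

variable {r : ℕ}

/-- Evaluation of a monomial. -/
def gpow (g : Fin r → A) (e : Fin r → ℕ) : A := ∏ i, g i ^ e i

lemma gpow_add (g : Fin r → A) (e e' : Fin r → ℕ) : gpow g (e + e') = gpow g e * gpow g e' := by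
  simp [gpow, pow_add, Finset.prod_mul_distrib]

lemma gpow_mem {g : Fin r → A} (hg : ∀ i, g i ∈ J) (e : Fin r → ℕ) : gpow g e ∈ J ^ (∑ i, e i) := by
  rw [← Finset.prod_pow_eq_pow_sum]
  exact Ideal.prod_mem_prod fun i _ => Ideal.pow_mem_pow (hg i) _

lemma pow_le_span_gpow {g : Fin r → A} (hg : Ideal.span (Set.range g) = J) (q : ℕ) :
    J ^ q ≤ Ideal.span (gpow g '' {e | ∑ i, e i = q}) := by
  induction q with
  | zero =>
    rw [pow_zero, Ideal.one_eq_top, top_le_iff, Ideal.eq_top_iff_one]
    exact Ideal.subset_span ⟨0, by simp, by simp [gpow]⟩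
  | succ q ih =>
    calc J ^ (q + 1) = J ^ q * Ideal.span (Set.range g) := by rw [pow_succ, hg]
      _ ≤ Ideal.span (gpow g '' {e | ∑ i, e i = q}) * Ideal.span (Set.range g) := Ideal.mul_mono_left ih
      _ ≤ _ := by
        rw [Ideal.span_mul_span']
        refine Ideal.span_mono ?_
        rintro _ ⟨_, ⟨e, he, rfl⟩, _, ⟨i, rfl⟩, rfl⟩
        refine ⟨e + Pi.single i 1, ?_, ?_⟩
        · simp only [Set.mem_setOf_eq] at he ⊢
          simp [Finset.sum_add_distrib, he]
        · rw [gpow_add]
          simp [gpow, Pi.single_apply, pow_ite, Finset.prod_ite_eq']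

lemma toLex_add_lt {d e e' : Fin r → ℕ} (h : toLex e' < toLex e) : toLex (d + e') < toLex (d + e) := by
  obtain ⟨i, h₁, h₂⟩ := h
  exact ⟨i, fun j hj => congrArg (d j + ·) (h₁ j hj), Nat.add_lt_add_left h₂ (d i)⟩

/-- The exponents of a given degree, in the lexicographic order. -/
def degs (r q : ℕ) : Finset (Lex (Fin r → ℕ)) :=
  (Finset.univ.piAntidiag q).map toLex.toEmbedding

lemma mem_degs {e : Lex (Fin r → ℕ)} {q : ℕ} : e ∈ degs r q ↔ ∑ i, ofLex e i = q := by
  constructor
  · intro h
    obtain ⟨x, hx, rfl⟩ := Finset.mem_map.mp h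
    exact (Finset.mem_piAntidiag.mp hx).1
  · intro h
    exact Finset.mem_map.mpr ⟨ofLex e, Finset.mem_piAntidiag.mpr ⟨h, fun i _ => Finset.mem_univ i⟩, rfl⟩

variable (J X)

/-- The image of a monomial. -/
noncomputable def monImg (g : Fin r → A) (q : ℕ) (e : Lex (Fin r → ℕ)) : Subobject (X.obj (op q)) :=
  imageSubobject (mu J X (gpow g (ofLex e)) 0 q)

/-- The part below a monomial. -/
noncomputable def below (g : Fin r → A) (q : ℕ) (e : Lex (Fin r → ℕ)) : Subobject (X.obj (op q)) :=
  ((degs r q).filter (· < e)).sup (monImg J X g q)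

/-- Leading coefficients. -/
noncomputable def lead (g : Fin r → A) (M : (q : ℕ) → Subobject (X.obj (op q))) (e : Fin r → ℕ) :
    Subobject (X.obj (op 0)) :=
  (Subobject.pullback (mu J X (gpow g e) 0 (∑ i, e i))).obj
    (M (∑ i, e i) ⊔ below J X g (∑ i, e i) (toLex e))

variable {J X}

lemma lead_mono_monomial (hX : IsAdic J X) {g : Fin r → A} (hg : ∀ i, g i ∈ J)
    {M : (q : ℕ) → Subobject (X.obj (op q))} (hM : IsGrSub J X M) : Monotone (lead J X g M) := by
  intro e e' hle
  obtain ⟨d, rfl⟩ : ∃ d, e' = d + e := ⟨e' - e, funext fun i => by have : e i ≤ e' i := hle i; simp only [Pi.add_apply, Pi.sub_apply]; omega⟩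
  have hsum : (∑ i, d i) + (∑ i, e i) = ∑ i, (d + e) i := by simp [Finset.sum_add_distrib]
  let μ := mu J X (gpow g d) (∑ i, e i) (∑ i, (d + e) i)
  have hφ : ∀ e₀ : Fin r → ℕ, (∑ i, e₀ i) = ∑ i, e i →
      mu J X (gpow g e₀) 0 (∑ i, e i) ≫ μ = mu J X (gpow g (d + e₀)) 0 (∑ i, (d + e) i) := fun e₀ he₀ => by
    rw [gpow_add]
    exact mu_comp hX (by simpa using he₀) hsum (gpow_mem hg e₀) (gpow_mem hg d)
  have hS : M (∑ i, e i) ⊔ below J X g (∑ i, e i) (toLex e) ≤ (Subobject.pullback μ).obj
      (M (∑ i, (d + e) i) ⊔ below J X g (∑ i, (d + e) i) (toLex (d + e))) := by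
    refine sup_le ?_ (Finset.sup_le fun e₀ he₀ => ?_)
    · exact (le_pullback_iff _ _ _).mpr (Subobject.factors_of_le _ le_sup_left (factors_mu hX hM hsum (gpow_mem hg d)))
    · obtain ⟨he₁, he₂⟩ := Finset.mem_filter.mp he₀
      rw [monImg, imageSubobject_le_iff_factors, pullback_factors_iff, hφ _ (mem_degs.mp he₁)]
      refine Subobject.factors_of_le _ (le_sup_of_le_right ?_)
        ((imageSubobject_le_iff_factors _ _).mp le_rfl)
      refine Finset.le_sup (f := monImg J X g _) (b := toLex (d + ofLex e₀)) (Finset.mem_filter.mpr ⟨?_, toLex_add_lt he₂⟩)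
      rw [mem_degs, ofLex_toLex]
      show ∑ i, (d i + ofLex e₀ i) = _
      rw [Finset.sum_add_distrib, mem_degs.mp he₁]
      exact hsum
  rw [lead, lead, le_pullback_iff, ← hφ e rfl, ← Category.assoc, ← pullback_factors_iff]
  exact Subobject.factors_of_le _ hS ((le_pullback_iff _ _ _).mp le_rfl)

lemma fsub_le_sup (hX : IsAdic J X) {g : Fin r → A} (hg : Ideal.span (Set.range g) = J) (q : ℕ) :
    Fsub X q q ≤ (degs r q).sup (monImg J X g q) := by
  have hgJ : ∀ i, g i ∈ J := fun i => hg ▸ Ideal.subset_span ⟨i, rfl⟩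
  refine (le_iff_arrow_comp_cokernel _ _).mpr (fsub_arrow_comp hX ?_)
  intro a ha
  have ha' := pow_le_span_gpow hg q ha
  clear ha
  induction ha' using Submodule.span_induction with
  | mem x hx =>
    obtain ⟨e, he, rfl⟩ := hx
    simp only [Set.mem_setOf_eq] at he
    have h1 : mu J X (gpow g e) 0 q ≫ cokernel.π ((degs r q).sup (monImg J X g q)).arrow = 0 :=
      (factors_iff_comp_cokernel_eq_zero _ _).mp ((imageSubobject_le_iff_factors _ _).mp
        (Finset.le_sup (f := monImg J X g q) (b := toLex e) (mem_degs.mpr he)))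
    have h2 := mu_fac hX (show (∑ i, e i) + 0 = q by omega) (gpow_mem hgJ e)
    rw [← Category.id_comp (cokernel.π _), ← Linear.smul_comp, ← h2, Category.assoc, h1, comp_zero]
  | zero => simp
  | add x y hx hy ihx ihy => rw [add_smul, ihx, ihy, add_zero]
  | smul c x hx ih => rw [smul_eq_mul, mul_smul, ih, smul_zero]

/-- Graded submodules are determined by their leading coefficients. -/
lemma eq_of_lead_le (hX : IsAdic J X) {g : Fin r → A} (hg : Ideal.span (Set.range g) = J)
    {M M' : (q : ℕ) → Subobject (X.obj (op q))} {q : ℕ} (hMM' : M q ≤ M' q) (hM' : M' q ≤ Fsub X q q)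
    (h : ∀ e, lead J X g M' e ≤ lead J X g M e) : M' q = M q := by
  have key : ∀ s : Finset (Lex (Fin r → ℕ)), s ⊆ degs r q →
      (∀ a ∈ s, ∀ b ∈ degs r q, b < a → b ∈ s) → M' q ⊓ s.sup (monImg J X g q) ≤ M q := by
    intro s
    induction s using Finset.induction_on_max with
    | empty => intro _ _; simp
    | insert a s hlt ih =>
      intro hsub hdown
      have hs : s = (degs r q).filter (· < a) := by
        ext b
        refine ⟨fun hb => Finset.mem_filter.mpr ⟨hsub (Finset.mem_insert_of_mem hb), hlt b hb⟩, fun hb => ?_⟩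
        obtain ⟨hb₁, hb₂⟩ := Finset.mem_filter.mp hb
        exact (Finset.mem_insert.mp (hdown a (Finset.mem_insert_self a s) b hb₁ hb₂)).resolve_left hb₂.ne
      have ih' := ih ((Finset.subset_insert a s).trans hsub) fun x hx b hb hbx => by
        rw [hs, Finset.mem_filter]
        exact ⟨hb, hbx.trans (hlt x hx)⟩
      rw [Finset.sup_insert]
      have ha : ∑ i, ofLex a i = q := mem_degs.mp (hsub (Finset.mem_insert_self a s))
      subst ha
      have hK : monImg J X g (∑ i, ofLex a i) a ⊓ (s.sup (monImg J X g (∑ i, ofLex a i)) ⊔ M' (∑ i, ofLex a i)) ≤ s.sup (monImg J X g (∑ i, ofLex a i)) ⊔ M (∑ i, ofLex a i) := by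
        obtain ⟨T, π, _, x, hx⟩ := (factors_iff_refinements _ _).mp
          (Subobject.inf_arrow_factors_left (monImg J X g (∑ i, ofLex a i) a) (s.sup (monImg J X g (∑ i, ofLex a i)) ⊔ M' (∑ i, ofLex a i)))
        have hlead := h (ofLex a)
        rw [lead, lead, toLex_ofLex, below, ← hs, sup_comm (M' (∑ i, ofLex a i)), sup_comm (M (∑ i, ofLex a i))] at hlead
        refine (le_iff_arrow_comp_cokernel _ _).mpr ((factors_iff_comp_cokernel_eq_zero _ _).mp ?_)
        refine factors_of_epi π _ ?_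
        rw [hx, ← pullback_factors_iff]
        refine Subobject.factors_of_le _ hlead ?_
        rw [pullback_factors_iff, ← hx]
        exact (factors_iff_comp_cokernel_eq_zero _ _).mpr (by
          rw [Category.assoc, (factors_iff_comp_cokernel_eq_zero _ _).mp (Subobject.inf_arrow_factors_right _ _),
            comp_zero])
      set S := s.sup (monImg J X g (∑ i, ofLex a i))
      set K := monImg J X g (∑ i, ofLex a i) a
      have h1 : M' (∑ i, ofLex a i) ⊓ (K ⊔ S) ≤ S ⊔ M (∑ i, ofLex a i) :=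
        calc M' (∑ i, ofLex a i) ⊓ (K ⊔ S) ≤ (S ⊔ K) ⊓ (S ⊔ M' (∑ i, ofLex a i)) :=
              le_inf (inf_le_right.trans_eq (sup_comm K S)) (inf_le_left.trans le_sup_right)
          _ ≤ S ⊔ K ⊓ (S ⊔ M' (∑ i, ofLex a i)) := sup_inf_le K le_sup_left
          _ ≤ S ⊔ M (∑ i, ofLex a i) := sup_le le_sup_left hK
      calc M' (∑ i, ofLex a i) ⊓ (K ⊔ S) ≤ (M (∑ i, ofLex a i) ⊔ S) ⊓ M' (∑ i, ofLex a i) := le_inf (h1.trans_eq (sup_comm _ _)) inf_le_left
        _ ≤ M (∑ i, ofLex a i) ⊔ S ⊓ M' (∑ i, ofLex a i) := sup_inf_le S hMM'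
        _ ≤ M (∑ i, ofLex a i) := sup_le le_rfl ((inf_comm _ _).trans_le ih')
  refine le_antisymm ?_ hMM'
  exact (le_inf le_rfl (hM'.trans (fsub_le_sup hX hg q))).trans (key (degs r q) le_rfl fun _ _ _ hb _ => hb)

/-- Ascending chains of graded submodules of an adic Noetherian system are stationary. -/
theorem isGrSub_chain_stationary [IsNoetherianRing A] (hX : IsAdicNoeth J X)
    (M : ℕ → (q : ℕ) → Subobject (X.obj (op q))) (hM : ∀ i, IsGrSub J X (M i)) (hmono : Monotone M) :
    ∃ i₀, ∀ i, i₀ ≤ i → M i = M i₀ := by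
  obtain ⟨r, g, hg⟩ := Submodule.fg_iff_exists_fin_generating_family.mp (IsNoetherian.noetherian J)
  have hgJ : ∀ i, g i ∈ J := fun i => hg ▸ Submodule.subset_span ⟨i, rfl⟩
  haveI := hX.2 0
  haveI := wellFoundedGT_monomialHom (Subobject (X.obj (op 0))) r
  let N : ℕ →o ((Fin r → ℕ) →o Subobject (X.obj (op 0))) :=
    ⟨fun i => ⟨lead J X g (M i), lead_mono_monomial hX.1 hgJ (hM i)⟩, fun i j hij e =>
      (Subobject.pullback _).monotone (sup_le_sup_right (hmono hij _) _)⟩
  obtain ⟨i₀, hi₀⟩ := wellFoundedGT_iff_monotone_chain_condition.mp inferInstance N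
  refine ⟨i₀, fun i hi => funext fun q => ?_⟩
  exact eq_of_lead_le hX.1 hg (hmono hi q) ((hM i).1 q)
    fun e => (congrArg (fun F : (Fin r → ℕ) →o Subobject (X.obj (op 0)) => F e) (hi₀ i hi)).ge

end Monomials

section StrictSub

lemma mono_app_of_mono {W Y : PS C} (i : W ⟶ Y) [Mono i] (n : ℕ) : Mono (i.app (op n)) :=
  inferInstanceAs (Mono (((evaluation ℕᵒᵖ C).obj (op n)).map i))

/-- The graded submodule of a strict subsystem. -/
lemma isGrSub_image (hX : IsAdapted J X) {W : PS C} (ι : W ⟶ X) (hW : IsStrict W) :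
    IsGrSub J X fun q => imageSubobject (ι.app (op q)) ⊓ Fsub X q q := by
  refine ⟨fun q => inf_le_right, fun p q a ha => ?_⟩
  have hA := isAdapted_iff.mp hX
  let P := (Subobject.pullback (tr X (Nat.le_add_left q p))).obj (imageSubobject (ι.app (op q)) ⊓ Fsub X q q)
  show imageSubobject (P.arrow ≫ (a • 𝟙 _)) ≤ _
  have hP := (pullback_factors_iff (tr X (Nat.le_add_left q p))
    (imageSubobject (ι.app (op q)) ⊓ Fsub X q q) P.arrow).mp (Subobject.factors_self _)
  obtain ⟨hP₁, hP₂⟩ := (Subobject.inf_factors _).mp hP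
  have act : ∀ {j : ℕ} {T : C} (x : T ⟶ X.obj (op (p + q))), (Fsub X j (p + q)).Factors x →
      (Fsub X (p + j) (p + q)).Factors (x ≫ (a • 𝟙 _)) := fun {j T} x hx => by
    have h := (imageSubobject_le_iff_factors _ _).mp (hA (p + q) p j a ha)
    rw [← Subobject.factorThru_arrow _ _ hx, Category.assoc]
    rw [factors_iff_comp_cokernel_eq_zero] at h ⊢
    rw [Category.assoc, h, comp_zero]
  rw [imageSubobject_le_iff_factors, Subobject.inf_factors]
  constructor
  · obtain ⟨T, π, _, z, hz⟩ := (factors_iff_refinements _ _).mp hP₁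
    haveI := hW q (p + q) (Nat.le_add_left q p)
    obtain ⟨T', π', _, y, hy⟩ := surjective_up_to_refinements_of_epi (tr W (Nat.le_add_left q p)) z
    let d := π' ≫ π ≫ P.arrow - y ≫ ι.app (op (p + q))
    have hd : d ≫ tr X (Nat.le_add_left q p) = 0 := by
      simp only [d, Preadditive.sub_comp, Category.assoc]
      rw [hz, tr_nat, reassoc_of% hy, sub_self]
    have hdF : (Fsub X (q + 1) (p + q)).Factors d := (fsub_factors_iff d).mpr fun k hk => by
      obtain rfl : k = q := by omega
      exact ⟨fun _ => hd, fun h => absurd h (by omega)⟩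
    have h0 : d ≫ (a • 𝟙 (X.obj (op (p + q)))) = 0 := by
      have := ((fsub_factors_iff _).mp (act d hdF) (p + q) (by omega)).1 le_rfl
      rwa [tr_self, Category.comp_id] at this
    refine factors_of_epi (π' ≫ π) _ ((factors_iff_refinements _ _).mpr
      ⟨_, 𝟙 T', inferInstance, a • y, ?_⟩)
    rw [Category.id_comp, Linear.smul_comp, ← sub_eq_zero]
    simp only [d, Preadditive.sub_comp, Category.assoc, Linear.comp_smul, Category.comp_id] at h0 ⊢
    rw [← smul_sub]
    exact h0
  · refine act P.arrow ((fsub_factors_iff _).mpr fun k hk => ?_)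
    have h := (fsub_factors_iff _).mp hP₂ k hk
    refine ⟨fun hkn => ?_, fun hkn => absurd hkn (by omega)⟩
    rcases le_or_gt k q with hkq | hkq
    · rw [← tr_comp X hkq (Nat.le_add_left q p), ← Category.assoc]
      exact h.1 hkq
    · exact absurd hk (by omega)

/-- Chains of strict subsystems of an adic Noetherian system are stationary. -/
theorem strict_chain_stationary [IsNoetherianRing A] (hX : IsAdicNoeth J X) (Z : ℕ →o Subobject X)
    (hZ : ∀ k, IsStrict ((Subobject.underlying.obj (Z k) : PS C))) :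
    ∃ k₀, ∀ k, k₀ ≤ k → Z k = Z k₀ := by
  let L : ℕ → (q : ℕ) → Subobject (X.obj (op q)) := fun k q => imageSubobject ((Z k).arrow.app (op q))
  have hLmono : ∀ {i j}, i ≤ j → ∀ q, L i q ≤ L j q := fun {i j} hij q => by
    show imageSubobject ((Z i).arrow.app (op q)) ≤ _
    rw [← Subobject.ofLE_arrow (Z.monotone hij), NatTrans.comp_app]
    exact imageSubobject_comp_le _ _
  obtain ⟨k₀, hk₀⟩ := isGrSub_chain_stationary hX (fun k q => L k q ⊓ Fsub X q q)
    (fun k => isGrSub_image (isAdapted_of_isAdic hX.1) (Z k).arrow (hZ k))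
    (fun i j hij q => inf_le_inf_right _ (hLmono hij q))
  refine ⟨k₀, fun k hk => ?_⟩
  have hM : ∀ q, L k q ⊓ Fsub X q q = L k₀ q ⊓ Fsub X q q := fun q => congrFun (hk₀ k hk) q
  have hL : ∀ q, L k q ≤ L k₀ q := by
    intro q
    induction q with
    | zero =>
      exact ((le_inf le_rfl le_top).trans (hM 0).le).trans inf_le_left
    | succ q ih =>
      refine (imageSubobject_le_iff_factors _ _).mpr ?_
      let x := (Z k).arrow.app (op (q + 1))
      have hxq : (L k₀ q).Factors (x ≫ tr X (Nat.le_succ q)) := Subobject.factors_of_le _ ih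
        ((factors_iff_refinements _ _).mpr ⟨_, 𝟙 _, inferInstance, tr _ (Nat.le_succ q),
          (Category.id_comp _).trans (tr_nat (Z k).arrow (Nat.le_succ q))⟩)
      obtain ⟨T, π, _, z, hz⟩ := (factors_iff_refinements _ _).mp hxq
      haveI := hZ k₀ q (q + 1) (Nat.le_succ q)
      obtain ⟨T', π', _, y, hy⟩ := surjective_up_to_refinements_of_epi
        (tr (Subobject.underlying.obj (Z k₀) : PS C) (Nat.le_succ q)) z
      let d := π' ≫ π ≫ x - y ≫ (Z k₀).arrow.app (op (q + 1))
      have hd : (L k (q + 1) ⊓ Fsub X (q + 1) (q + 1)).Factors d := by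
        refine (Subobject.inf_factors _).mpr ⟨(factors_iff_refinements _ _).mpr ⟨T', 𝟙 _, inferInstance,
          π' ≫ π - y ≫ (Subobject.ofLE _ _ (Z.monotone hk)).app (op (q + 1)), ?_⟩, (fsub_factors_iff d).mpr fun j hj => ?_⟩
        · rw [Category.id_comp, Preadditive.sub_comp, Category.assoc, Category.assoc, ← NatTrans.comp_app,
            Subobject.ofLE_arrow]
        · obtain rfl : j = q := by omega
          refine ⟨fun _ => ?_, fun h => absurd h (by omega)⟩
          simp only [d, Preadditive.sub_comp, Category.assoc]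
          rw [hz, tr_nat, reassoc_of% hy, sub_self]
      have hd' : (L k₀ (q + 1)).Factors d := Subobject.factors_of_le _ ((hM (q + 1)).le.trans inf_le_left) hd
      refine factors_of_epi π _ (factors_of_epi π' _ ?_)
      have e : π' ≫ π ≫ x = d + y ≫ (Z k₀).arrow.app (op (q + 1)) := by simp [d]
      rw [e, factors_iff_comp_cokernel_eq_zero, Preadditive.add_comp,
        (factors_iff_comp_cokernel_eq_zero _ _).mp hd', Category.assoc,
        (factors_iff_comp_cokernel_eq_zero _ _).mp ((imageSubobject_le_iff_factors _ _).mp le_rfl), comp_zero,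
        add_zero]
  refine le_antisymm ?_ (Z.monotone hk)
  refine (le_iff_arrow_comp_cokernel _ _).mpr (NatTrans.ext (funext fun ⟨n⟩ => ?_))
  have e : (Z k₀).arrow.app (op n) ≫ (cokernel.π (Z k₀).arrow).app (op n) = 0 := by
    rw [← NatTrans.comp_app, cokernel.condition, NatTrans.app_zero]
  have h' := (imageSubobject_le_iff _ _).mp (hL n)
  rw [NatTrans.comp_app, NatTrans.app_zero, ← cokernel.π_desc _ _ e, reassoc_of% h', zero_comp]

end StrictSub

section FiniteType

/-- A strict adapted system whose strict graded module is of finite type is adic up to translation. -/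
theorem isARAdic_of_grsFiniteType (hJ : J.FG ∨ HasCoproducts.{w} C) (hX : IsStrict X) (hA : IsAdapted J X)
    (hft : GrsFiniteType J X) : IsARAdic J X := by
  have kX : TermKilled J X := fun n a ha => by
    have h := hA n (n + 1) le_rfl a ha
    rw [Nat.sub_self] at h
    haveI : IsIso (Fsub X 0 n).arrow := inferInstanceAs (IsIso (⊤ : Subobject (X.obj (op n))).arrow)
    rwa [← cancel_epi (Fsub X 0 n).arrow, comp_zero]
  choose Q π hQ using fun k q => exists_isQuot (C := C) (fg_or_pow hJ k) (X.obj (op q))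
  let P : (k q : ℕ) → Subobject (X.obj (op q)) := fun k q => kernelSubobject (π k q)
  have hP : ∀ {k q : ℕ} {T : C} (x : T ⟶ X.obj (op q)), (P k q).Factors x ↔
      ∀ (Y : C) (φ : X.obj (op q) ⟶ Y), HomKilledBy (J ^ k) φ → x ≫ φ = 0 := fun {k q T} x => by
    rw [kernelSubobject_factors_iff]
    refine ⟨fun h Y φ hφ => ?_, fun h => h _ _ (homKilledBy_of_target (hQ k q).1 _)⟩
    rw [← qdesc_fac (hQ k q) φ hφ, reassoc_of% h, zero_comp]
  have hPmono : ∀ {k k' q : ℕ}, k ≤ k' → P k' q ≤ P k q := fun {k k' q} hk =>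
    Subobject.le_of_comm ((P k q).factorThru _ ((hP _).mpr fun Y φ hφ =>
      (hP _).mp (Subobject.factors_self (P k' q)) Y φ fun a ha => hφ a (Ideal.pow_le_pow_right hk ha)))
      (Subobject.factorThru_arrow _ _ _)
  have hA' := isAdapted_iff.mp hA
  have hgr : ∀ i, IsGrSub J X fun q => Fsub X q q ⊓ P (q - i) q := fun i => by
    refine ⟨fun q => inf_le_left, fun p q a ha => ?_⟩
    let R := (Subobject.pullback (tr X (Nat.le_add_left q p))).obj (Fsub X q q ⊓ P (q - i) q)
    show imageSubobject (R.arrow ≫ (a • 𝟙 _)) ≤ _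
    have hR := (pullback_factors_iff (tr X (Nat.le_add_left q p)) (Fsub X q q ⊓ P (q - i) q) R.arrow).mp
      (Subobject.factors_self _)
    obtain ⟨hR₁, hR₂⟩ := (Subobject.inf_factors _).mp hR
    rw [imageSubobject_le_iff_factors, Subobject.inf_factors]
    constructor
    · have hx : (Fsub X q (p + q)).Factors R.arrow := (fsub_factors_iff _).mpr fun k hk => by
        refine ⟨fun _ => ?_, fun h => absurd h (by omega)⟩
        rw [← tr_comp X (show k ≤ q by omega) (Nat.le_add_left q p), ← Category.assoc]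
        exact ((fsub_factors_iff _).mp hR₁ k hk).1 _
      have h := (imageSubobject_le_iff_factors _ _).mp (hA' (p + q) p q a ha)
      rw [← Subobject.factorThru_arrow _ _ hx, Category.assoc]
      rw [factors_iff_comp_cokernel_eq_zero] at h ⊢
      rw [Category.assoc, h, comp_zero]
    · refine (hP _).mpr fun Y φ hφ => ?_
      have h1 : (Fsub X (q + 1) (p + q)).arrow ≫ (a • φ) = 0 := by
        have h := ((fsub_factors_iff _).mp ((imageSubobject_le_iff_factors _ _).mp
          (hA' (p + q) p (q + 1) a ha)) (p + q) (by omega)).1 le_rfl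
        rw [tr_self, Category.comp_id] at h
        simpa [Linear.comp_smul, Linear.smul_comp] using h =≫ φ
      haveI := hX q (p + q) (Nat.le_add_left q p)
      have h2 : kernel.ι (tr X (Nat.le_add_left q p)) ≫ (a • φ) = 0 := by
        have hk : (Fsub X (q + 1) (p + q)).Factors (kernel.ι (tr X (Nat.le_add_left q p))) :=
          (fsub_factors_iff _).mpr fun k hk => by
            obtain rfl : k = q := by omega
            exact ⟨fun _ => kernel.condition _, fun h => absurd h (by omega)⟩
        rw [← Subobject.factorThru_arrow _ _ hk, Category.assoc, h1, comp_zero]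
      let ψ := Abelian.epiDesc (tr X (Nat.le_add_left q p)) (a • φ) h2
      have hψ : HomKilledBy (J ^ (q - i)) ψ := by
        refine homKilledBy_of_epi (tr X (Nat.le_add_left q p)) fun b hb => ?_
        rw [Abelian.comp_epiDesc, smul_smul, mul_comm]
        refine hφ _ (Ideal.pow_le_pow_right (show p + q - i ≤ p + (q - i) by omega) ?_)
        rw [pow_add]
        exact Ideal.mul_mem_mul ha hb
      have h3 := (hP _).mp hR₂ Y ψ hψ
      rw [Category.assoc, Abelian.comp_epiDesc] at h3
      simpa [Linear.comp_smul, Linear.smul_comp] using h3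
  have hlub : ∀ q, IsLUB (Set.range fun i => Fsub X q q ⊓ P (q - i) q) (Fsub X q q) := fun q => by
    refine ⟨?_, fun B hB => ?_⟩
    · rintro _ ⟨i, rfl⟩
      exact inf_le_left
    · refine le_trans (le_inf le_rfl ?_) (hB ⟨q, rfl⟩)
      refine Subobject.le_of_comm ((P (q - q) q).factorThru _ ((hP _).mpr fun Y φ hφ => ?_))
        (Subobject.factorThru_arrow _ _ _)
      have : φ = 0 := by simpa using hφ 1 (by simp)
      rw [this, comp_zero]
  obtain ⟨i, hi⟩ := hft (fun i q => Fsub X q q ⊓ P (q - i) q) hgr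
    (fun i j hij q => inf_le_inf_left _ (hPmono (by omega))) hlub
  refine isARAdic_of_subLEIdeal hJ hX kX (r := i) fun n Y φ hφ => ?_
  have hF : Fker X n = Fsub X n n := by
    cases n with
    | zero => rfl
    | succ k => simp [Fker, Fsub]
  rw [hF]
  exact (hP _).mp (Subobject.factors_of_le _ ((hi n).ge.trans inf_le_right) (Subobject.factors_self _)) Y φ hφ

end FiniteType

end Groth.Agent.ARLib
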